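import Cfsg.Agent.Lib.FTHarvest.CommOrderSolvable
import Cfsg.Agent.Lib.Fusion.PComplement
import Cfsg.Agent.Lib.Invol.BaerSuzuki
import Cfsg.Agent.Lib.Invol.Basic
import Cfsg.Agent.Lib.Coprime.Component

/-!
# Nilpotency of a lower central term from orders of products of commutators

The odd order theorem enters as a hypothesis.
-/

set_option autoImplicit false
set_option linter.unusedSectionVars false
set_option linter.style.haveILetI false

open Subgroup

namespace CfsgLib.FTHarvest.CommOrder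

universe u

variable {G : Type u} [Group G] [Finite G]

theorem not_hasNormalPComplement_two
    (FT : ∀ (H : Type u) [Group H] [Finite H], Odd (Nat.card H) → Group.IsSolvable H)
    (hns : ¬ Group.IsSolvable G) : ¬ Cfsg.HasNormalPComplement 2 G := by
  haveI : Fact (Nat.Prime 2) := ⟨Nat.prime_two⟩
  rintro ⟨P, N, hN, hc⟩
  haveI := hN
  haveI : Group.IsSolvable N := FT _ (by
    rw [← hc.index_eq_card, Nat.odd_iff]
    have := P.not_dvd_index
    omega)
  obtain ⟨n, hn⟩ := P.2.exists_card_eq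
  haveI : Group.IsNilpotent (G ⧸ N) := (IsPGroup.of_card (p := 2) (n := n)
    (by rw [← index_eq_card, hc.symm.index_eq_card, hn])).isNilpotent
  haveI : Group.IsSolvable (G ⧸ N) := inferInstance
  exact hns (Group.isSolvable_of_ker_le_range N.subtype (QuotientGroup.mk' N)
    (by rw [QuotientGroup.ker_mk', range_subtype]))

theorem exists_action_two
    (FT : ∀ (H : Type u) [Group H] [Finite H], Odd (Nat.card H) → Group.IsSolvable H)
    (hns : ¬ Group.IsSolvable G) :
    ∃ T : Subgroup G, IsPGroup 2 T ∧ ∃ a ∈ normalizer (T : Set G),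
      (orderOf a).Coprime 2 ∧ ∃ t ∈ T, ¬ Commute t a := by
  haveI : Fact (Nat.Prime 2) := ⟨Nat.prime_two⟩
  obtain ⟨P⟩ : Nonempty (Sylow 2 G) := inferInstance
  have h : ¬ Fusion.LocallyPNilpotentAction 2 (P : Subgroup G) := fun h =>
    not_hasNormalPComplement_two FT hns (Fusion.hasNormalPComplement_of_locallyPNilpotentAction P h)
  rw [Fusion.LocallyPNilpotentAction] at h
  push Not at h
  obtain ⟨Q, hQ, a, ha, hcop, hc⟩ := h
  rw [mem_centralizer_iff] at hc
  push Not at hc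
  obtain ⟨t, ht, hta⟩ := hc
  exact ⟨Q, P.2.to_le hQ, a, ha, hcop, t, ht, hta⟩

/-- An element of square one outside `O₂` inverts an element of odd prime order. -/
theorem exists_inverted {z : G} (hz : orderOf z = 2)
    (hO : ∀ N : Subgroup G, N.Normal → IsPGroup 2 N → z ∉ N) :
    ∃ q : ℕ, q.Prime ∧ q ≠ 2 ∧ ∃ w : G, orderOf w = q ∧ z * w * z⁻¹ = w⁻¹ := by
  haveI : Fact (Nat.Prime 2) := ⟨Nat.prime_two⟩
  obtain ⟨g, hg⟩ : ∃ g : G, ¬ IsPGroup 2 (closure ({z, g * z * g⁻¹} : Set G)) := by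
    by_contra hcon
    push Not at hcon
    obtain ⟨N, hN, hN2, hzN⟩ := Invol.exists_normal_pGroup_mem hcon
    exact hO N hN hN2 hzN
  set v := g * z * g⁻¹ with hv
  have hvo : orderOf v = 2 := Invol.invol_conj hz g
  obtain ⟨q, hq, hqd, hq2⟩ : ∃ q, q.Prime ∧ q ∣ orderOf (z * v) ∧ q ≠ 2 := by
    by_contra hcon
    push Not at hcon
    obtain ⟨s, hs⟩ : ∃ s, orderOf (z * v) = 2 ^ s :=
      ⟨_, Nat.eq_prime_pow_of_unique_prime_dvd (orderOf_pos _).ne' fun {d} hd hdd => hcon d hd hdd⟩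
    exact hg (Invol.two_group_of_pair hz hvo hs)
  refine ⟨q, hq, hq2, (z * v) ^ (orderOf (z * v) / q), ?_, ?_⟩
  · have hd : orderOf (z * v) / q ∣ orderOf (z * v) := Nat.div_dvd_of_dvd hqd
    rw [Invol.odd_dvd_orderOf hd, Nat.div_div_self hqd (orderOf_pos _).ne']
  · rw [← conj_pow, Invol.invol_conj_mul hz hvo, inv_pow]

/-- A nonsolvable group cannot satisfy the condition. -/
theorem solvable_of_cond
    (FT : ∀ (H : Type u) [Group H] [Finite H], Odd (Nat.card H) → Group.IsSolvable H)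
    (k : ℕ) : ∀ (n : ℕ) (G : Type u) [Group G] [Finite G], Nat.card G ≤ n → Cond k G →
      Group.IsSolvable G := by
  intro n
  induction n with
  | zero => intro G _ _ hn; exact absurd hn (by have := Nat.card_pos (α := G); omega)
  | succ n IH =>
  intro G _ _ hn hk
  by_contra hns
  haveI : Fact (Nat.Prime 2) := ⟨Nat.prime_two⟩
  have hsub : ∀ H : Subgroup G, H ≠ ⊤ → Group.IsSolvable H := fun H hH => by
    refine IH H ?_ (hk.subgroup H)
    have hle := card_le_card_group H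
    have hne : Nat.card H ≠ Nat.card G := fun e => hH (eq_top_of_card_eq H e)
    omega
  have hperf : commutator G = ⊤ := by
    by_contra h
    haveI := hsub _ h
    exact hns (Group.isSolvable_of_ker_le_range (commutator G).subtype Abelianization.of
      (by rw [Abelianization.ker_of, range_subtype]))
  have hext : ∀ (A : Subgroup G) [A.Normal], Group.IsSolvable A → Group.IsSolvable (G ⧸ A) → False :=
    fun A _ h1 h2 => hns (haveI := h1; haveI := h2
      Group.isSolvable_of_ker_le_range A.subtype (QuotientGroup.mk' A)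
        (by rw [QuotientGroup.ker_mk', range_subtype]))
  haveI : Nonempty {A : Subgroup G // A.Normal ∧ A ≠ ⊤} :=
    ⟨⟨⊥, inferInstance, fun e => hns (by
      haveI : Subsingleton G := by
        refine ⟨fun a b => ?_⟩
        have h1 : ∀ x : G, x = 1 := fun x => mem_bot.1 (e ▸ mem_top x)
        rw [h1 a, h1 b]
      infer_instance)⟩⟩
  obtain ⟨⟨R, hRn, hRtop⟩, hRmax⟩ :=
    Finite.exists_max (fun A : {A : Subgroup G // A.Normal ∧ A ≠ ⊤} => Nat.card A.1)
  haveI := hRn
  haveI hRs := hsub R hRtop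
  -- every proper normal subgroup lies in `R`
  have hnormal : ∀ C : Subgroup G, C.Normal → C ≠ ⊤ → C ≤ R := by
    intro C hC hCtop
    haveI := hC
    haveI := hsub C hCtop
    have hne : C ⊔ R ≠ ⊤ := fun e => hext R inferInstance (by
      refine Group.isSolvable_of_surjective (f := (QuotientGroup.mk' R).comp C.subtype) fun b => ?_
      obtain ⟨x, rfl⟩ := QuotientGroup.mk'_surjective R b
      obtain ⟨c, hc, r, hr, rfl⟩ := mem_sup_of_normal_right.1 (e ▸ mem_top x : x ∈ C ⊔ R)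
      exact ⟨⟨c, hc⟩, by
        show QuotientGroup.mk' R c = QuotientGroup.mk' R (c * r)
        rw [map_mul, show QuotientGroup.mk' R r = 1 from (QuotientGroup.eq_one_iff r).2 hr, mul_one]⟩)
    rw [eq_of_le_of_card_ge (le_sup_right : R ≤ C ⊔ R) (hRmax ⟨C ⊔ R, inferInstance, hne⟩)]
    exact le_sup_left
  have hqns : ¬ Group.IsSolvable (G ⧸ R) := fun h => hext R hRs h
  -- commutators of prime power order outside `R`
  obtain ⟨T, hT, a, ha, hacop, t, ht, hta⟩ := exists_action_two FT hqns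
  obtain ⟨y₂, hy₂, hy₂2, -, hy₂R⟩ := exists_comm_lift k R hT ht ha hacop hta
  have hnoTwo : ∀ N : Subgroup (G ⧸ R), N.Normal → IsPGroup 2 N → N = ⊥ := by
    intro N hN hN2
    haveI := hN
    haveI := hN2.isNilpotent
    set M := N.comap (QuotientGroup.mk' R) with hM
    have hMtop : M ≠ ⊤ := fun e => hqns (by
      have htop : N = ⊤ := eq_top_iff.2 fun b _ => by
        obtain ⟨x, rfl⟩ := QuotientGroup.mk'_surjective R b
        exact (e ▸ mem_top x : x ∈ M)
      haveI : Group.IsSolvable N := inferInstance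
      exact Group.isSolvable_of_surjective (f := N.subtype) fun b => ⟨⟨b, htop ▸ mem_top b⟩, rfl⟩)
    refine le_bot_iff.1 fun b hb => ?_
    obtain ⟨x, rfl⟩ := QuotientGroup.mk'_surjective R b
    exact mem_bot.2 ((QuotientGroup.eq_one_iff x).2 (hnormal M inferInstance hMtop hb))
  obtain ⟨z, -, hz⟩ : ∃ z ∈ (⊤ : Subgroup (G ⧸ R)), orderOf z = 2 := Invol.exists_invol_mem (by
    rw [card_top, ← Nat.not_odd_iff_even]
    exact fun h => hqns (FT _ h))
  obtain ⟨q, hq, hq2, w, hw, hzw⟩ := exists_inverted hz fun N hN hN2 hzN =>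
    Invol.invol_ne_one hz (mem_bot.1 (hnoTwo N hN hN2 ▸ hzN))
  haveI := Fact.mk hq
  obtain ⟨yq, hyq, hyqq, -, hyqR⟩ : ∃ y : G, IsComm k y ∧ (∃ j, y ^ q ^ j = 1) ∧
      QuotientGroup.mk' R y ∈ zpowers w ∧ y ∉ R := by
    refine exists_comm_lift k R (IsPGroup.of_card (n := 1) (by rw [Nat.card_zpowers, hw, pow_one]))
      (mem_zpowers w) (a := z) ?_ (by rw [hz]; exact (Nat.coprime_primes Nat.prime_two hq).2 hq2.symm) ?_
    · rw [mem_normalizer_iff]
      have h1 : ∀ x ∈ zpowers w, z * x * z⁻¹ ∈ zpowers w := by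
        rintro _ ⟨i, rfl⟩
        show z * w ^ i * z⁻¹ ∈ zpowers w
        rw [Invol.conj_zpow_of_inverts hzw]
        exact zpow_mem (mem_zpowers w) _
      refine fun x => ⟨h1 x, fun hx => ?_⟩
      have h2 := h1 _ hx
      rwa [show z * (z * x * z⁻¹) * z⁻¹ = (z * z) * x * (z * z)⁻¹ by group,
        Invol.invol_mul_self hz, one_mul, inv_one, mul_one] at h2
    · intro hc
      rw [← hc.eq, mul_inv_cancel_right] at hzw
      have h2 : orderOf w ∣ 2 :=
        orderOf_dvd_of_pow_eq_one (by rw [pow_two]; exact mul_eq_one_iff_eq_inv.2 hzw)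
      rw [hw] at h2
      exact hq2 ((Nat.prime_dvd_prime_iff_eq hq Nat.prime_two).1 h2)
  -- the cores are central
  have hcen : ∀ r : ℕ, r.Prime → Cfsg.pCore r G ≤ center G := by
    intro r hr
    haveI := Fact.mk hr
    haveI := Coprime.pCore_normal' (G := G) r
    have key : ∀ (p : ℕ), p.Prime → p ≠ r → ∀ y : G, IsComm k y → (∃ j, y ^ p ^ j = 1) →
        y ∈ centralizer (Cfsg.pCore r G : Set G) := by
      intro p hp hpr y hy ⟨j, hj⟩
      refine mem_centralizer_iff.2 fun x hx => ?_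
      have hc : y * x * y⁻¹ * x⁻¹ ∈ Cfsg.pCore r G :=
        mul_mem ((inferInstance : (Cfsg.pCore r G).Normal).conj_mem x hx y) (inv_mem hx)
      obtain ⟨i, hi⟩ := Coprime.pCore_isPGroup r ⟨_, hc⟩
      refine (hk.commute hy x (Nat.Coprime.coprime_dvd_left
        (orderOf_dvd_of_pow_eq_one (by simpa using congrArg Subtype.val hi))
        (Nat.Coprime.coprime_dvd_right (orderOf_dvd_of_pow_eq_one hj) ?_))).symm
      exact Nat.Coprime.pow _ _ ((Nat.coprime_primes hr hp).2 hpr.symm)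
    have hne : centralizer (Cfsg.pCore r G : Set G) = ⊤ := by
      by_contra hne
      have hle := hnormal _ inferInstance hne
      rcases eq_or_ne r 2 with rfl | hr2
      · exact hyqR (hle (key q hq hq2 yq hyq hyqq))
      · exact hy₂R (hle (key 2 Nat.prime_two (Ne.symm hr2) y₂ hy₂ hy₂2))
    exact fun x hx => mem_center_iff.2 fun g =>
      (mem_centralizer_iff.1 (hne ▸ mem_top g) x hx).symm
  have hFc : Cfsg.fittingSubgroup G ≤ center G := by
    rw [Coprime.fitting_eq_iSup_pCore]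
    exact iSup_le fun p => hcen p p.2
  have hRc : R ≤ center G := by
    have h1 : (Cfsg.fittingSubgroup R).map R.subtype ≤ center G := by
      rw [Coprime.fitting_map_subtype_eq]; exact inf_le_left.trans hFc
    intro x hx
    have h2 : (⟨x, hx⟩ : R) ∈ centralizer (Cfsg.fittingSubgroup R : Set R) :=
      mem_centralizer_iff.2 fun f hf =>
        Subtype.ext (mem_center_iff.1 (h1 (mem_map_of_mem _ hf)) x).symm
    exact h1 (mem_map_of_mem R.subtype (Coprime.centralizer_fitting_le h2))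
  -- a minimal 2-subgroup with a nontrivial action of odd order
  obtain ⟨T₀, hT₀, a, ha₀, hacop, t₀, ht₀, hta₀⟩ := exists_action_two FT hns
  haveI : Nonempty {T : Subgroup G // IsPGroup 2 T ∧ a ∈ normalizer (T : Set G) ∧
      ∃ t ∈ T, ¬ Commute t a} := ⟨⟨T₀, hT₀, ha₀, t₀, ht₀, hta₀⟩⟩
  obtain ⟨⟨T, hT, ha, t₁, ht₁, hta₁⟩, hTmin⟩ := Finite.exists_min
    (fun T : {T : Subgroup G // IsPGroup 2 T ∧ a ∈ normalizer (T : Set G) ∧
      ∃ t ∈ T, ¬ Commute t a} => Nat.card T.1)
  have hmin : ∀ U : Subgroup G, U ≤ T → U ≠ T → (∀ x ∈ U, a * x * a⁻¹ ∈ U) →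
      ∀ x ∈ U, Commute x a := by
    intro U hU hne hconj x hx
    by_contra hxa
    have haU : a ∈ normalizer (U : Set G) := by
      have h1 : U.map (MulAut.conj a).toMonoidHom = U :=
        eq_of_le_of_card_ge (map_le_iff_le_comap.2 hconj) (card_map_of_injective (K := U)
          (f := (MulAut.conj a).toMonoidHom) (MulAut.conj a).injective).ge
      rw [mem_normalizer_iff]
      refine fun y => ⟨hconj y, fun hy => ?_⟩
      rw [← h1] at hy
      obtain ⟨v, hv, hvy⟩ := hy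
      have : v = y := (MulAut.conj a).injective hvy
      exact this ▸ hv
    exact hne (eq_of_le_of_card_ge hU (hTmin ⟨U, hT.to_le hU, haU, x, hx, hxa⟩))
  have haT : ∀ x ∈ T, a * x * a⁻¹ ∈ T := fun x hx => (mem_normalizer_iff.1 ha x).1 hx
  set Φ := Subgroup.closure ((fun x => x * x) '' (T : Set G)) with hΦdef
  have hΦT : Φ ≤ T := (closure_le _).2 (by rintro _ ⟨x, hx, rfl⟩; exact mul_mem hx hx)
  have hΦne : Φ ≠ T := by
    obtain ⟨m, hm⟩ := hT.exists_card_eq
    rcases m with _ | m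
    · exfalso
      rw [pow_zero, card_eq_one] at hm
      exact hta₁ (by
        have h1 : t₁ ∈ (⊥ : Subgroup G) := hm ▸ ht₁
        rw [mem_bot.1 h1]; exact Commute.one_left a)
    obtain ⟨U, hU⟩ := Sylow.exists_subgroup_card_pow_prime (G := T) 2 (n := m)
      (hm ▸ pow_dvd_pow 2 (Nat.le_succ m))
    have hidx : U.index = 2 := by
      have := U.card_mul_index
      rw [hU, hm, pow_succ] at this
      exact Nat.eq_of_mul_eq_mul_left (Nat.two_pow_pos m) this
    intro e
    have hle : Φ ≤ U.map T.subtype := (closure_le _).2 (by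
      rintro _ ⟨x, hx, rfl⟩
      exact ⟨⟨x, hx⟩ * ⟨x, hx⟩, mul_self_mem_of_index_two hidx _, rfl⟩)
    have h1 := card_le_of_le (e ▸ hle)
    rw [card_map_of_injective T.subtype_injective, hU, hm, pow_succ] at h1
    have := Nat.two_pow_pos m
    omega
  have hΦa : ∀ s ∈ Φ, Commute s a := hmin Φ hΦT hΦne fun x hx => by
    have h1 : Φ ≤ Φ.comap (MulAut.conj a).toMonoidHom := (closure_le _).2 (by
      rintro _ ⟨v, hv, rfl⟩
      exact subset_closure ⟨a * v * a⁻¹, haT v hv, by simp [mul_assoc]⟩)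
    exact h1 hx
  have hcomm : ∀ x ∈ T, ∀ y ∈ T, x * y * x⁻¹ * y⁻¹ ∈ Φ := fun x hx y hy => by
    rw [show x * y * x⁻¹ * y⁻¹ = (x * x) * ((x⁻¹ * y) * (x⁻¹ * y)) * (y⁻¹ * y⁻¹) by group]
    exact mul_mem (mul_mem (subset_closure ⟨x, hx, rfl⟩)
      (subset_closure ⟨_, mul_mem (inv_mem hx) hy, rfl⟩)) (subset_closure ⟨_, inv_mem hy, rfl⟩)
  have hΦcen : ∀ s ∈ Φ, ∀ x ∈ T, Commute s x := by
    intro s hs
    set W := Subgroup.closure ((fun x => x * a * x⁻¹ * a⁻¹) '' (T : Set G)) with hW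
    have hWT : W ≤ T := (closure_le _).2 (by
      rintro _ ⟨x, hx, rfl⟩
      show x * a * x⁻¹ * a⁻¹ ∈ T
      rw [show x * a * x⁻¹ * a⁻¹ = x * (a * x⁻¹ * a⁻¹) by group]
      exact mul_mem hx (haT _ (inv_mem hx)))
    have hWtop : W = T := by
      by_contra hne
      have h1 := hmin W hWT hne fun x hx => by
        have h2 : W ≤ W.comap (MulAut.conj a).toMonoidHom := (closure_le _).2 (by
          rintro _ ⟨v, hv, rfl⟩
          exact subset_closure ⟨a * v * a⁻¹, haT v hv, by simp [mul_assoc]⟩)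
        exact h2 hx
      exact it_not_commute hT ht₁ ha hacop hta₁ 1 (h1 _ (subset_closure ⟨t₁, ht₁, rfl⟩))
    have hgen : W ≤ centralizer ({s} : Set G) := (closure_le _).2 (by
      rintro _ ⟨x, hx, rfl⟩
      refine mem_centralizer_singleton_iff.2 ?_
      have e1 : a * s * a⁻¹ = s := by rw [← (hΦa s hs).eq, mul_inv_cancel_right]
      have e2 := hcomm s (hΦT hs) x⁻¹ (inv_mem hx)
      have e3 : a * (s * x⁻¹ * s⁻¹ * x⁻¹⁻¹) * a⁻¹ = s * x⁻¹ * s⁻¹ * x⁻¹⁻¹ := by
        rw [← (hΦa _ e2).eq, mul_inv_cancel_right]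
      have e4 : a * (s * x⁻¹ * s⁻¹ * x⁻¹⁻¹) * a⁻¹ =
          (a * s * a⁻¹) * (a * x⁻¹ * a⁻¹) * (a * s * a⁻¹)⁻¹ * (a * x⁻¹ * a⁻¹)⁻¹ := by group
      rw [e4, e1] at e3
      have e5 : (a * x⁻¹ * a⁻¹) * s⁻¹ * (a * x⁻¹ * a⁻¹)⁻¹ = x⁻¹ * s⁻¹ * x⁻¹⁻¹ := by
        have := congrArg (fun b => s⁻¹ * b) e3
        simpa [mul_assoc] using this
      calc x * a * x⁻¹ * a⁻¹ * s
          = x * ((a * x⁻¹ * a⁻¹) * s⁻¹ * (a * x⁻¹ * a⁻¹)⁻¹)⁻¹ * (a * x⁻¹ * a⁻¹) := by group
        _ = x * (x⁻¹ * s⁻¹ * x⁻¹⁻¹)⁻¹ * (a * x⁻¹ * a⁻¹) := by rw [e5]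
        _ = s * (x * a * x⁻¹ * a⁻¹) := by group)
    exact fun x hx => (mem_centralizer_singleton_iff.1 (hgen (hWtop ▸ hx))).symm
  obtain ⟨y, hy, hy2, hy1, hysq⟩ : ∃ y : G, IsComm k y ∧ (∃ j, y ^ 2 ^ j = 1) ∧ y ∉ center G ∧
      y * y ∈ center G := by
    set u := it t₁ a k with hu
    set c := it t₁ a (k + 1) with hcdef
    have huT : u ∈ T := it_mem ht₁ ha k
    have hcT : c ∈ T := it_mem ht₁ ha (k + 1)
    have hcX : IsComm k c := (it_isComm t₁ a (k + 1)).anti
    have hpow : ∀ x ∈ T, ∃ j, x ^ 2 ^ j = 1 := fun x hx => by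
      obtain ⟨j, hj⟩ := hT ⟨x, hx⟩
      exact ⟨j, by simpa using congrArg Subtype.val hj⟩
    by_cases hB : ∀ s ∈ T, c * s * c⁻¹ * s⁻¹ ∈ center G
    · refine ⟨c, hcX, hpow c hcT, fun h => it_not_commute hT ht₁ ha hacop hta₁ (k + 1)
        (mem_center_iff.1 h a).symm, ?_⟩
      have e1 : a * u⁻¹ * a⁻¹ = u⁻¹ * c := by rw [hcdef, it, ← hu]; group
      have e2 : a * (u⁻¹ * u⁻¹) * a⁻¹ = u⁻¹ * u⁻¹ := by
        rw [← (hΦa _ (subset_closure ⟨_, inv_mem huT, rfl⟩)).eq, mul_inv_cancel_right]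
      rw [show a * (u⁻¹ * u⁻¹) * a⁻¹ = (a * u⁻¹ * a⁻¹) * (a * u⁻¹ * a⁻¹) by group, e1] at e2
      have e3 : u * c⁻¹ * u⁻¹ = c := by
        have h1 : c * u⁻¹ * c = u⁻¹ := by
          have := congrArg (fun b => u * b) e2
          simpa [mul_assoc] using this
        calc u * c⁻¹ * u⁻¹ = u * c⁻¹ * (c * u⁻¹ * c) := by rw [h1]
          _ = c := by group
      have e4 : c * u * c⁻¹ * u⁻¹ = c * c := by
        rw [show c * u * c⁻¹ * u⁻¹ = c * (u * c⁻¹ * u⁻¹) by group, e3]
      exact e4 ▸ hB u huT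
    · push Not at hB
      obtain ⟨s, hs, hsZ⟩ := hB
      set d := c * s * c⁻¹ * s⁻¹ with hd
      have hdΦ : d ∈ Φ := hcomm c hcT s hs
      refine ⟨d, hcX.comm_right s, hpow d (hΦT hdΦ), hsZ, ?_⟩
      have h1 : c * s * c⁻¹ = d * s := by rw [hd]; group
      have h5 : c * d * c⁻¹ = d := by rw [← (hΦcen d hdΦ c hcT).eq, mul_inv_cancel_right]
      have h2 : (c * c) * s * (c * c)⁻¹ = d * d * s :=
        calc (c * c) * s * (c * c)⁻¹ = c * (c * s * c⁻¹) * c⁻¹ := by group
          _ = c * (d * s) * c⁻¹ := by rw [h1]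
          _ = (c * d * c⁻¹) * (c * s * c⁻¹) := by group
          _ = d * (d * s) := by rw [h5, h1]
          _ = d * d * s := (mul_assoc _ _ _).symm
      rw [(hΦcen _ (subset_closure ⟨c, hcT, rfl⟩) s hs).eq, mul_inv_cancel_right] at h2
      rw [(right_eq_mul.1 h2 : d * d = 1)]
      exact one_mem _
  -- a Baer–Suzuki pair modulo the centre
  set π := QuotientGroup.mk' (center G) with hπ
  have hone : ∀ x : G, π x = 1 ↔ x ∈ center G := fun x => by
    rw [hπ, QuotientGroup.mk'_apply, QuotientGroup.eq_one_iff]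
  have hyb : orderOf (π y) = 2 := Invol.invol_iff.2
    ⟨by rw [← map_mul, hone]; exact hysq, fun h => hy1 ((hone y).1 h)⟩
  obtain ⟨q', hq', hq'2, wb, hwb, hywb⟩ := exists_inverted hyb fun N hN hN2 hyN => by
    haveI := hN
    have hMtop : N.comap π ≠ ⊤ := fun e => by
      haveI := hN2.isNilpotent
      haveI : Group.IsSolvable N := inferInstance
      refine hext (center G) (Group.isSolvable_of_comm fun a b => Subtype.ext (mem_center_iff.1 b.2 a)) ?_
      refine Group.isSolvable_of_surjective (f := N.subtype) fun b => ?_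
      obtain ⟨x, rfl⟩ := QuotientGroup.mk'_surjective (center G) b
      exact ⟨⟨π x, (e ▸ mem_top x : x ∈ N.comap π)⟩, rfl⟩
    exact hy1 (hRc (hnormal _ inferInstance hMtop hyN))
  obtain ⟨w₀, rfl⟩ := QuotientGroup.mk'_surjective (center G) wb
  obtain ⟨e, l, hl, hel⟩ := Nat.exists_eq_pow_mul_and_not_dvd (orderOf_pos w₀).ne' 2 (by norm_num)
  set w := w₀ ^ 2 ^ e with hwdef
  have hlodd : Odd l := by rw [Nat.odd_iff]; omega
  have hwl : w ^ l = 1 := by rw [hwdef, ← pow_mul, ← hel, pow_orderOf_eq_one]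
  have hinv : π y * π w * (π y)⁻¹ = (π w)⁻¹ := by
    rw [hwdef, map_pow, ← conj_pow, hywb, inv_pow]
  have hc' : w * (y * w * y⁻¹) ∈ center G := (hone _).1 (by
    rw [map_mul, map_mul, map_mul, map_inv, hinv, mul_inv_cancel])
  have hcw : Commute (y * w * y⁻¹) w := by
    rw [show y * w * y⁻¹ = w⁻¹ * (w * (y * w * y⁻¹)) by group]
    exact ((Commute.refl w).inv_left).mul_left (mem_center_iff.1 hc' w).symm
  have hv : orderOf (y * w * y⁻¹ * w⁻¹) ∣ l := orderOf_dvd_of_pow_eq_one (by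
    rw [hcw.inv_right.mul_pow, conj_pow, inv_pow, hwl, mul_one, mul_inv_cancel, inv_one, mul_one])
  obtain ⟨j, hj⟩ := hy2
  have hyw := hk.commute hy w (Nat.Coprime.coprime_dvd_left hv
    (Nat.Coprime.coprime_dvd_right (orderOf_dvd_of_pow_eq_one hj)
      (Nat.Coprime.pow_right j hlodd.coprime_two_right)))
  have h1 : π w = (π w)⁻¹ := by
    rw [← hinv, ← map_mul, hyw, map_mul, mul_inv_cancel_right]
  rw [hwdef, map_pow] at h1
  have h2 : orderOf (π w₀) ∣ 2 ^ (e + 1) := orderOf_dvd_of_pow_eq_one (by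
    rw [pow_succ, pow_mul, pow_two]; exact mul_eq_one_iff_eq_inv.2 h1)
  rw [hwb] at h2
  exact hq'2 ((Nat.prime_dvd_prime_iff_eq hq' Nat.prime_two).1 (hq'.dvd_of_dvd_pow h2))

/-- A lower central term is nilpotent if and only if the order condition holds. -/
theorem lcs_nilpotent_iff
    (FT : ∀ (H : Type u) [Group H] [Finite H], Odd (Nat.card H) → Group.IsSolvable H) (k : ℕ) :
    Group.IsNilpotent ↥((⊤ : Subgroup G).lowerCentralSeries k) ↔ Cond k G := by
  refine ⟨fun h x y hx hy hc => ?_, fun h => ?_⟩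
  · haveI := h
    set x' : ↥((⊤ : Subgroup G).lowerCentralSeries k) := ⟨x, hx.mem_lowerCentralSeries⟩
    set y' : ↥((⊤ : Subgroup G).lowerCentralSeries k) := ⟨y, hy.mem_lowerCentralSeries⟩
    have hmem : y' ∈ centralizer ({x'} : Set _) := by
      refine PGroup.mem_of_forall_prime_pow_mem fun r hr => ?_
      haveI := Fact.mk hr
      by_cases hrx : r ∣ orderOf x
      · refine ⟨orderOf y', fun hd => hr.ne_one (Nat.eq_one_of_dvd_coprimes hc hrx ?_),
          by rw [pow_orderOf_eq_one]; exact one_mem _⟩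
        rwa [Subgroup.orderOf_mk] at hd
      obtain ⟨e, l, hl, hel⟩ := Nat.exists_eq_pow_mul_and_not_dvd (orderOf_pos y').ne' r hr.ne_one
      refine ⟨l, hl, mem_centralizer_singleton_iff.2 ?_⟩
      obtain ⟨i, -, hi⟩ := (Nat.dvd_prime_pow hr).1 (orderOf_dvd_of_pow_eq_one (x := y' ^ l)
        (n := r ^ e) (by rw [← pow_mul, mul_comm, ← hel, pow_orderOf_eq_one]))
      exact (Coprime.commute_of_coprime_pow (p := r) (b := x') (y := y' ^ l)
        (P := zpowers (y' ^ l))
        (by rw [Subgroup.orderOf_mk, Nat.coprime_comm, hr.coprime_iff_not_dvd]; exact hrx)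
        (IsPGroup.of_card (n := i) (by rw [Nat.card_zpowers, hi])) (mem_zpowers _)).eq.symm
    have hcomm : Commute x y :=
      (congrArg Subtype.val (mem_centralizer_singleton_iff.1 hmem)).symm
    exact Or.inr (hcomm.orderOf_mul_eq_mul_orderOf_of_coprime hc).ge
  · haveI := solvable_of_cond FT k _ G le_rfl h
    exact isNilpotent_lcs_of_solvable h

end CfsgLib.FTHarvest.CommOrder
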