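import Mathlib
import Cfsg.Agent.Lib.PGroup.Basic
import Cfsg.Agent.Lib.Coprime.Fitting
import Cfsg.Agent.Lib.Coprime.MinimalNonNilpotent

/-!
# Iterated commutators and a condition on orders of products

Basic lemmas for the nilpotency criterion of the lower central terms.
-/

set_option autoImplicit false
set_option linter.unusedSectionVars false
set_option linter.style.haveILetI false

open Subgroup

namespace CfsgLib.FTHarvest.CommOrder

variable {G : Type*} [Group G]

/-- Iterated commutators of weight `k + 1`. -/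
def IsComm : ℕ → G → Prop
  | 0, _ => True
  | k + 1, x => ∃ y g : G, IsComm k y ∧ x = y * g * y⁻¹ * g⁻¹

theorem isComm_iff (k : ℕ) (x : G) :
    (∃ f : Fin (k + 1) → G, x = ((List.ofFn f).tail).foldl (fun a b => a * b * a⁻¹ * b⁻¹) (f 0)) ↔
      IsComm k x := by
  induction k generalizing x with
  | zero => exact ⟨fun _ => trivial, fun _ => ⟨fun _ => x, by simp⟩⟩
  | succ k ih =>
    have step : ∀ f : Fin (k + 2) → G,
        ((List.ofFn f).tail).foldl (fun a b => a * b * a⁻¹ * b⁻¹) (f 0) =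
          (fun a b => a * b * a⁻¹ * b⁻¹)
            (((List.ofFn fun i => f (Fin.castSucc i)).tail).foldl (fun a b => a * b * a⁻¹ * b⁻¹) (f 0))
            (f (Fin.last _)) := fun f => by
      rw [List.ofFn_succ' f, List.concat_eq_append, List.tail_append_of_ne_nil (by simp),
        List.foldl_append, List.foldl_cons, List.foldl_nil]
    constructor
    · rintro ⟨f, hf⟩
      rw [step f] at hf
      exact ⟨_, f (Fin.last _), (ih _).1 ⟨fun i => f (Fin.castSucc i), by simp⟩, hf⟩
    · rintro ⟨y, g, hy, hx⟩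
      obtain ⟨f, hf⟩ := (ih y).2 hy
      refine ⟨Fin.snoc f g, ?_⟩
      rw [step, hx]
      have h0 : (Fin.snoc f g : Fin (k + 2) → G) 0 = f 0 :=
        Fin.snoc_castSucc (α := fun _ => G) g f 0
      simp only [Fin.snoc_castSucc, Fin.snoc_last, h0, hf]

theorem IsComm.anti {k : ℕ} {x : G} (h : IsComm (k + 1) x) : IsComm k x := by
  induction k generalizing x with
  | zero => trivial
  | succ k ih =>
    obtain ⟨y, g, hy, rfl⟩ := h
    exact ⟨y, g, ih hy, rfl⟩

theorem IsComm.comm_right {k : ℕ} {x : G} (h : IsComm k x) (n : G) :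
    IsComm k (x * n * x⁻¹ * n⁻¹) :=
  IsComm.anti ⟨x, n, h, rfl⟩

theorem IsComm.map {k : ℕ} {x : G} {H : Type*} [Group H] (f : G →* H) (h : IsComm k x) :
    IsComm k (f x) := by
  induction k generalizing x with
  | zero => trivial
  | succ k ih =>
    obtain ⟨y, g, hy, rfl⟩ := h
    exact ⟨f y, f g, ih hy, by simp⟩

theorem IsComm.conj {k : ℕ} {x : G} (h : IsComm k x) (n : G) : IsComm k (n * x * n⁻¹) :=
  h.map (MulAut.conj n).toMonoidHom

theorem IsComm.exists_preimage {k : ℕ} {H : Type*} [Group H] {f : G →* H}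
    (hf : Function.Surjective f) {x : H} (h : IsComm k x) : ∃ y, IsComm k y ∧ f y = x := by
  induction k generalizing x with
  | zero =>
    obtain ⟨y, hy⟩ := hf x
    exact ⟨y, trivial, hy⟩
  | succ k ih =>
    obtain ⟨a, b, ha, rfl⟩ := h
    obtain ⟨a', ha', rfl⟩ := ih ha
    obtain ⟨b', rfl⟩ := hf b
    exact ⟨_, ⟨a', b', ha', rfl⟩, by simp⟩

theorem IsComm.mem_lowerCentralSeries {k : ℕ} {x : G} (h : IsComm k x) :
    x ∈ (⊤ : Subgroup G).lowerCentralSeries k := by
  induction k generalizing x with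
  | zero => exact mem_top x
  | succ k ih =>
    obtain ⟨y, g, hy, rfl⟩ := h
    rw [Subgroup.lowerCentralSeries_succ]
    exact commutator_mem_commutator (ih hy) (mem_top g)

theorem lowerCentralSeries_le (k : ℕ) (N : Subgroup G) [N.Normal]
    (h : ∀ x, IsComm k x → x ∈ N) : (⊤ : Subgroup G).lowerCentralSeries k ≤ N := by
  induction k generalizing N with
  | zero => exact fun x _ => h x trivial
  | succ k ih =>
    have h1 := ih ((center (G ⧸ N)).comap (QuotientGroup.mk' N)) fun x hx => by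
      refine mem_comap.2 (mem_center_iff.2 fun g => ?_)
      obtain ⟨g, rfl⟩ := QuotientGroup.mk'_surjective N g
      have h2 : QuotientGroup.mk' N (x * g * x⁻¹ * g⁻¹) = 1 :=
        (QuotientGroup.eq_one_iff _).2 (h _ ⟨x, g, hx, rfl⟩)
      rw [map_mul, map_mul, map_mul, map_inv, map_inv, mul_inv_eq_one, mul_inv_eq_iff_eq_mul] at h2
      exact h2.symm
    rw [Subgroup.lowerCentralSeries_succ, commutator_le]
    intro a ha g _
    have h2 : QuotientGroup.mk' N (a * g * a⁻¹ * g⁻¹) = 1 := by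
      rw [map_mul, map_mul, map_mul, map_inv, map_inv, mul_inv_eq_one, mul_inv_eq_iff_eq_mul]
      exact (mem_center_iff.1 (h1 ha) _).symm
    exact (QuotientGroup.eq_one_iff _).1 h2

/-- The condition on orders of products of coprime iterated commutators. -/
def Cond (k : ℕ) (G : Type*) [Group G] : Prop :=
  ∀ x y : G, IsComm k x → IsComm k y → (orderOf x).Coprime (orderOf y) →
    (∀ r : ℕ, r.Prime → r ∣ orderOf x * orderOf y → r ∣ orderOf (x * y)) ∨
      orderOf x * orderOf y ≤ orderOf (x * y)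

theorem Cond.subgroup {k : ℕ} (h : Cond k G) (H : Subgroup G) : Cond k H := by
  intro x y hx hy hc
  have := h x y (hx.map H.subtype) (hy.map H.subtype) (by simpa [Subgroup.orderOf_coe] using hc)
  simpa only [← Subgroup.coe_mul, Subgroup.orderOf_coe] using this

/-- The basic consequence of the condition. -/
theorem Cond.commute [Finite G] {k : ℕ} (h : Cond k G) {x : G} (hx : IsComm k x) (n : G)
    (hcop : (orderOf (x * n * x⁻¹ * n⁻¹)).Coprime (orderOf x)) : x * n = n * x := by
  set c := x * n * x⁻¹ * n⁻¹ with hc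
  have hconj : orderOf (n * x * n⁻¹) = orderOf x :=
    orderOf_injective (MulAut.conj n).toMonoidHom (MulAut.conj n).injective x
  have hprod : c * (n * x * n⁻¹) = x := by rw [hc]; group
  have h1 := h c (n * x * n⁻¹) (hx.comm_right n) (hx.conj n) (by rwa [hconj])
  rw [hprod, hconj] at h1
  have hc1 : orderOf c = 1 := by
    rcases h1 with h1 | h1
    · by_contra hne
      obtain ⟨r, hr, hrd⟩ := Nat.exists_prime_and_dvd hne
      exact hr.ne_one (Nat.eq_one_of_dvd_coprimes hcop hrd (h1 r hr (dvd_mul_of_dvd_left hrd _)))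
    · have h2 : orderOf c ≤ 1 := Nat.le_of_mul_le_mul_right (by simpa using h1) (orderOf_pos x)
      have := orderOf_pos c
      omega
  rw [orderOf_eq_one_iff, hc, mul_inv_eq_one, mul_inv_eq_iff_eq_mul] at hc1
  exact hc1

/-- Iterated commutators with one element. -/
def it (u a : G) : ℕ → G
  | 0 => u
  | i + 1 => it u a i * a * (it u a i)⁻¹ * a⁻¹

theorem it_isComm (u a : G) (i : ℕ) : IsComm i (it u a i) := by
  induction i with
  | zero => trivial
  | succ i ih => exact ⟨_, a, ih, rfl⟩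

theorem it_map {H : Type*} [Group H] (f : G →* H) (u a : G) (i : ℕ) :
    f (it u a i) = it (f u) (f a) i := by
  induction i with
  | zero => rfl
  | succ i ih => simp only [it, map_mul, map_inv, ih]

theorem it_mem {P : Subgroup G} {u a : G} (hu : u ∈ P) (ha : a ∈ normalizer (P : Set G)) (i : ℕ) :
    it u a i ∈ P := by
  induction i with
  | zero => exact hu
  | succ i ih =>
    rw [it, show it u a i * a * (it u a i)⁻¹ * a⁻¹ = it u a i * (a * (it u a i)⁻¹ * a⁻¹) by group]
    exact mul_mem ih ((mem_normalizer_iff.1 ha _).1 (inv_mem ih))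

/-- An element of order prime to `p` acting nontrivially on a `p`-group has no vanishing iterated
commutator. -/
theorem it_not_commute [Finite G] {p : ℕ} {P : Subgroup G} (hP : IsPGroup p P) {u a : G} (hu : u ∈ P)
    (ha : a ∈ normalizer (P : Set G)) (hcop : (orderOf a).Coprime p) (hne : ¬ Commute u a) (i : ℕ) :
    ¬ Commute (it u a i) a := by
  induction i with
  | zero => exact hne
  | succ i ih =>
    intro hc
    obtain ⟨j, hj⟩ := hP ⟨_, it_mem hu ha (i + 1)⟩
    set c := it u a i with hcdef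
    set d := it u a (i + 1) with hddef
    have hd : d * a = c * a * c⁻¹ := by
      rw [hddef, it, ← hcdef, inv_mul_cancel_right]
    have h1 : d ^ orderOf a = 1 := by
      have h2 := hc.mul_pow (orderOf a)
      rw [pow_orderOf_eq_one, mul_one, hd, conj_pow, pow_orderOf_eq_one, mul_one,
        mul_inv_cancel] at h2
      exact h2.symm
    have h3 : d = 1 := orderOf_eq_one_iff.1 (Nat.eq_one_of_dvd_coprimes (hcop.pow_right j)
      (orderOf_dvd_of_pow_eq_one h1)
      (orderOf_dvd_of_pow_eq_one (by simpa using congrArg Subtype.val hj)))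
    refine ih ?_
    rw [h3, one_mul] at hd
    exact (eq_mul_inv_iff_mul_eq.1 hd).symm

/-- A `p`-subgroup of a quotient lifts to a `p`-subgroup whose normaliser covers the normaliser. -/
theorem exists_lift [Finite G] {p : ℕ} [Fact p.Prime] (R : Subgroup G) [R.Normal]
    (Pb : Subgroup (G ⧸ R)) (hPb : IsPGroup p Pb) :
    ∃ P : Subgroup G, IsPGroup p P ∧ P.map (QuotientGroup.mk' R) = Pb ∧
      ∀ b ∈ normalizer (Pb : Set (G ⧸ R)),
        ∃ g ∈ normalizer (P : Set G), QuotientGroup.mk' R g = b := by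
  set π := QuotientGroup.mk' R with hπ
  set M := Pb.comap π with hM
  let f : M →* Pb := (π.comp M.subtype).codRestrict Pb fun x => x.2
  have hf : Function.Surjective f := fun d => by
    obtain ⟨x, hx⟩ := QuotientGroup.mk'_surjective R (d : G ⧸ R)
    exact ⟨⟨x, show π x ∈ Pb by rw [hπ, hx]; exact d.2⟩, Subtype.ext hx⟩
  obtain ⟨Q⟩ : Nonempty (Sylow p M) := inferInstance
  have hQtop : ((Q.mapSurjective hf : Sylow p Pb) : Subgroup Pb) = ⊤ :=
    ((Q.mapSurjective hf).3 (hPb.to_subgroup ⊤) le_top).symm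
  set P := (Q : Subgroup M).map M.subtype with hP
  have honto : ∀ d ∈ Pb, ∃ s ∈ P, π s = d := fun d hd => by
    have h1 : (⟨d, hd⟩ : Pb) ∈ ((Q.mapSurjective hf : Sylow p Pb) : Subgroup Pb) :=
      hQtop ▸ mem_top _
    rw [Sylow.coe_mapSurjective] at h1
    obtain ⟨s, hs, hsd⟩ := h1
    exact ⟨s, mem_map_of_mem _ hs, congrArg Subtype.val hsd⟩
  refine ⟨P, Q.2.map _, le_antisymm ?_ fun d hd => ?_, fun b hb => ?_⟩
  · rintro _ ⟨s, hs, rfl⟩
    obtain ⟨t, -, rfl⟩ := hs
    exact t.2
  · obtain ⟨s, hs, hsd⟩ := honto d hd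
    exact ⟨s, hs, hsd⟩
  · obtain ⟨g, rfl⟩ := QuotientGroup.mk'_surjective R b
    have hg : g ∈ normalizer (M : Set G) := by
      rw [mem_normalizer_iff]
      intro x
      show π x ∈ Pb ↔ π (g * x * g⁻¹) ∈ Pb
      rw [map_mul, map_mul, map_inv]
      exact mem_normalizer_iff.1 hb (π x)
    -- the conjugate of `Q` by `g` is a Sylow subgroup of `M`
    have hle : P.map (MulAut.conj g).toMonoidHom ≤ M := by
      rintro _ ⟨s, ⟨t, -, rfl⟩, rfl⟩
      exact (mem_normalizer_iff.1 hg _).1 t.2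
    have hcard : Nat.card ((P.map (MulAut.conj g).toMonoidHom).subgroupOf M) =
        p ^ (Nat.card M).factorization p := by
      rw [Nat.card_congr (subgroupOfEquivOfLe hle).toEquiv,
        card_map_of_injective (f := (MulAut.conj g).toMonoidHom) (MulAut.conj g).injective, hP,
        card_map_of_injective M.subtype_injective, Q.card_eq_multiplicity]
    obtain ⟨m, hm⟩ := MulAction.exists_smul_eq M (Sylow.ofCard _ hcard) Q
    obtain ⟨s, hs, hsm⟩ := honto (π m) m.2
    have hsR : s⁻¹ * (m : G) ∈ R := (QuotientGroup.eq_one_iff _).1 (show π (s⁻¹ * m) = 1 by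
      rw [map_mul, map_inv, hsm, inv_mul_cancel])
    refine ⟨s⁻¹ * (m * g), mul_mem (inv_mem (le_normalizer hs)) ?_, ?_⟩
    · have h1 : ∀ x ∈ P, (m : G) * g * x * ((m : G) * g)⁻¹ ∈ P := by
        intro x hx
        have h2 : (⟨g * x * g⁻¹, hle ⟨x, hx, rfl⟩⟩ : M) ∈
            ((Sylow.ofCard _ hcard : Sylow p M) : Subgroup M) :=
          mem_subgroupOf.2 ⟨x, hx, rfl⟩
        have h3 : m * ⟨g * x * g⁻¹, hle ⟨x, hx, rfl⟩⟩ * m⁻¹ ∈ (Q : Subgroup M) := by
          rw [← hm, Sylow.coe_subgroup_smul]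
          exact smul_mem_pointwise_smul _ (MulAut.conj m) _ h2
        refine ⟨_, h3, ?_⟩
        simp [mul_assoc]
      have h4 : P.map (MulAut.conj ((m : G) * g)).toMonoidHom = P := by
        refine eq_of_le_of_card_ge (map_le_iff_le_comap.2 h1) ?_
        exact (card_map_of_injective (K := P) (f := (MulAut.conj ((m : G) * g)).toMonoidHom)
          (MulAut.conj ((m : G) * g)).injective).ge
      rw [mem_normalizer_iff]
      refine fun x => ⟨h1 x, fun hx => ?_⟩
      rw [← h4] at hx
      obtain ⟨y, hy, hyx⟩ := hx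
      have : y = x := (MulAut.conj ((m : G) * g)).injective hyx
      exact this ▸ hy
    · rw [← mul_assoc, map_mul, show π (s⁻¹ * m) = 1 from (QuotientGroup.eq_one_iff _).2 hsR, one_mul]

/-- A nontrivial coprime action in a quotient gives an iterated commutator of prime power order
outside the kernel. -/
theorem exists_comm_lift [Finite G] {p : ℕ} [Fact p.Prime] (k : ℕ) (R : Subgroup G) [R.Normal]
    {Pb : Subgroup (G ⧸ R)} (hPb : IsPGroup p Pb) {u a : G ⧸ R} (hu : u ∈ Pb)
    (ha : a ∈ normalizer (Pb : Set (G ⧸ R))) (hcop : (orderOf a).Coprime p) (hne : ¬ Commute u a) :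
    ∃ y : G, IsComm k y ∧ (∃ j, y ^ p ^ j = 1) ∧ QuotientGroup.mk' R y ∈ Pb ∧ y ∉ R := by
  obtain ⟨P, hP, hmap, hN⟩ := exists_lift R Pb hPb
  obtain ⟨g, hg, rfl⟩ := hN a ha
  rw [← hmap] at hu
  obtain ⟨v, hv, rfl⟩ := hu
  have hy : it v g k ∈ P := it_mem hv hg k
  obtain ⟨j, hj⟩ := hP ⟨_, hy⟩
  refine ⟨_, it_isComm v g k, ⟨j, by simpa using congrArg Subtype.val hj⟩, hmap ▸ mem_map_of_mem _ hy,
    fun h => ?_⟩
  apply it_not_commute hPb (hmap ▸ mem_map_of_mem _ hv) ha hcop hne k
  rw [← it_map, show QuotientGroup.mk' R (it v g k) = 1 from (QuotientGroup.eq_one_iff _).2 h]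
  exact Commute.one_left _

theorem mem_pCore_of_mem_fitting [Finite G] {r : ℕ} [Fact r.Prime] {w : G}
    (hw : w ∈ Cfsg.fittingSubgroup G) (hr : ∃ j, w ^ r ^ j = 1) : w ∈ Cfsg.pCore r G := by
  set F := Cfsg.fittingSubgroup G with hF
  haveI : F.Normal := Coprime.fitting_normal
  haveI := Coprime.fitting_isNilpotent (G := G)
  obtain ⟨j, hj⟩ := hr
  obtain ⟨i, -, hi⟩ := (Nat.dvd_prime_pow (Fact.out : r.Prime)).1 (orderOf_dvd_of_pow_eq_one hj)
  have hp : IsPGroup r (zpowers (⟨w, hw⟩ : F)) :=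
    IsPGroup.of_card (n := i) (by rw [Nat.card_zpowers, ← hi, Subgroup.orderOf_mk])
  obtain ⟨S, hS⟩ := hp.exists_le_sylow
  have hn := (Group.isNilpotent_of_finite_tfae (G := F)).out 0 3 rfl rfl |>.1 inferInstance
  haveI := hn r inferInstance S
  haveI : (S : Subgroup F).Characteristic := S.characteristic_of_normal inferInstance
  haveI := Coprime.map_subtype_normal_of_characteristic F (S : Subgroup F)
  exact Coprime.le_pCore (S.2.map F.subtype) (mem_map_of_mem F.subtype (hS (mem_zpowers _)))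

/-- In a normal subgroup which is a `p`-group modulo the Fitting subgroup, an element centralising
all `r`-cores, `r ≠ p`, lies in the Fitting subgroup. -/
theorem mem_fitting_of_centralizes [Finite G] {p : ℕ} [Fact p.Prime] (M : Subgroup G) [M.Normal]
    (hM : ∀ m ∈ M, ∃ j, m ^ p ^ j ∈ Cfsg.fittingSubgroup G) {y : G} (hy : y ∈ M)
    (hc : ∀ r : ℕ, r.Prime → r ≠ p → ∀ w ∈ Cfsg.pCore r G, y * w = w * y) :
    y ∈ Cfsg.fittingSubgroup G := by
  set W : Set G := {w | ∃ r : ℕ, r.Prime ∧ r ≠ p ∧ w ∈ Cfsg.pCore r G} with hW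
  set K := M ⊓ centralizer W with hK
  haveI hKn : K.Normal := by
    refine ⟨fun x hx g => ⟨(inferInstance : M.Normal).conj_mem x hx.1 g, ?_⟩⟩
    refine mem_centralizer_iff.2 fun w ⟨r, hr, hrp, hw⟩ => ?_
    haveI := Coprime.pCore_normal' (G := G) r
    have h1 := mem_centralizer_iff.1 hx.2 (g⁻¹ * w * g)
      ⟨r, hr, hrp, by simpa using (inferInstance : (Cfsg.pCore r G).Normal).conj_mem w hw g⁻¹⟩
    calc w * (g * x * g⁻¹) = g * (g⁻¹ * w * g * x) * g⁻¹ := by group
      _ = g * (x * (g⁻¹ * w * g)) * g⁻¹ := by rw [h1]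
      _ = g * x * g⁻¹ * w := by group
  have hq : IsPGroup p (K ⧸ center K) := by
    intro q
    obtain ⟨x, rfl⟩ := QuotientGroup.mk'_surjective (center K) q
    obtain ⟨j, hj⟩ := hM x x.2.1
    obtain ⟨i, l, hl, hil⟩ := Nat.exists_eq_pow_mul_and_not_dvd (orderOf_pos ((x : G) ^ p ^ j)).ne' p
      (Fact.out : p.Prime).ne_one
    refine ⟨j + i, ?_⟩
    rw [← map_pow]
    refine (QuotientGroup.eq_one_iff _).2 (mem_center_iff.2 fun y' => Subtype.ext ?_)
    have hmem : ((x : G) ^ p ^ j) ^ p ^ i ∈ centralizer ({(y' : G)} : Set G) := by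
      refine CfsgLib.PGroup.mem_of_forall_prime_pow_mem fun r hr => ?_
      by_cases hrp : r = p
      · subst hrp
        refine ⟨l, hl, ?_⟩
        rw [← pow_mul, ← hil, pow_orderOf_eq_one]
        exact one_mem _
      obtain ⟨e, k', hk', hek⟩ := Nat.exists_eq_pow_mul_and_not_dvd
        (orderOf_pos (((x : G) ^ p ^ j) ^ p ^ i)).ne' r hr.ne_one
      refine ⟨k', hk', mem_centralizer_singleton_iff.2 ?_⟩
      haveI := Fact.mk hr
      have hw := mem_pCore_of_mem_fitting (r := r) (pow_mem (pow_mem hj (p ^ i)) k')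
        ⟨e, by rw [← pow_mul, mul_comm, ← hek, pow_orderOf_eq_one]⟩
      exact mem_centralizer_iff.1 y'.2.2 _ ⟨r, hr, hrp, hw⟩
    have h2 := mem_centralizer_singleton_iff.1 hmem
    rw [← pow_mul, ← pow_add] at h2
    simpa using h2.symm
  haveI := hq.isNilpotent
  have hKnil : Group.IsNilpotent K :=
    Subgroup.isNilpotent_of_ker_le_center (QuotientGroup.mk' (center K)) (by rw [QuotientGroup.ker_mk'])
  exact Coprime.le_fitting (N := K) hKnil
    ⟨hy, mem_centralizer_iff.2 fun w ⟨r, hr, hrp, hw⟩ => (hc r hr hrp w hw).symm⟩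

end CfsgLib.FTHarvest.CommOrder
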