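import Cfsg.Agent.Lib.FTHarvest.CommOrderBasic

/-!
# The nilpotency criterion for solvable groups
-/

set_option autoImplicit false
set_option linter.unusedSectionVars false
set_option linter.style.haveILetI false

open Subgroup

namespace CfsgLib.FTHarvest.CommOrder

variable {G : Type*} [Group G] [Finite G]

/-- A finite solvable group in which, for every `p`, the elements of order prime to `p` centralise
the `p`-core is nilpotent. -/
theorem isNilpotent_of_centralizes [Group.IsSolvable G]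
    (h : ∀ p : ℕ, p.Prime → ∀ u ∈ Cfsg.pCore p G, ∀ a : G, (orderOf a).Coprime p → Commute u a) :
    Group.IsNilpotent G := by
  haveI : (Cfsg.fittingSubgroup G).Normal := Coprime.fitting_normal
  by_contra hn
  have hF : Cfsg.fittingSubgroup G ≠ ⊤ := fun e =>
    hn (haveI := Coprime.fitting_isNilpotent (G := G)
      Group.nilpotent_of_mulEquiv ((MulEquiv.subgroupCongr e).trans topEquiv))
  haveI : Group.IsSolvable (G ⧸ Cfsg.fittingSubgroup G) :=
    Group.isSolvable_of_surjective (QuotientGroup.mk'_surjective _)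
  have htop : (⊤ : Subgroup (G ⧸ Cfsg.fittingSubgroup G)) ≠ ⊥ := fun e => hF (eq_top_iff.2 fun g _ =>
    (QuotientGroup.eq_one_iff g).1 (mem_bot.1 (e ▸ mem_top (QuotientGroup.mk' _ g))))
  obtain ⟨L, hLn, hLne, -, hmin⟩ := Coprime.exists_minimal_normal_le htop
  haveI := hLn
  obtain ⟨-, q, hq, hexp⟩ := Coprime.minimal_normal_solvable hLne hmin
  haveI := Fact.mk hq
  obtain ⟨b, hbL, hb⟩ := L.bot_or_exists_ne_one.resolve_left hLne
  obtain ⟨x, rfl⟩ := QuotientGroup.mk'_surjective (Cfsg.fittingSubgroup G) b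
  obtain ⟨e, l, hl, hel⟩ := Nat.exists_eq_pow_mul_and_not_dvd (orderOf_pos x).ne' q hq.ne_one
  have hxl : x ^ l ∈ Cfsg.fittingSubgroup G := by
    refine mem_fitting_of_centralizes (p := q) (L.comap (QuotientGroup.mk' _)) (fun m hm => ⟨1, ?_⟩)
      (pow_mem (show x ∈ L.comap (QuotientGroup.mk' _) from hbL) l) fun r hr hrq w hw => ?_
    · rw [pow_one]
      exact (QuotientGroup.eq_one_iff _).1 (by rw [← QuotientGroup.mk'_apply, map_pow]; exact hexp _ hm)
    · haveI := Fact.mk hr
      refine (h r hr w hw (x ^ l) ?_).eq.symm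
      have hd : orderOf (x ^ l) ∣ q ^ e :=
        orderOf_dvd_of_pow_eq_one (by rw [← pow_mul, mul_comm, ← hel, pow_orderOf_eq_one])
      exact Nat.Coprime.coprime_dvd_left hd
        (Nat.Coprime.pow_left e ((Nat.coprime_primes hq hr).2 hrq.symm))
  refine hb ?_
  have h1 : (QuotientGroup.mk' (Cfsg.fittingSubgroup G) x) ^ l = 1 := by
    rw [← map_pow]; exact (QuotientGroup.eq_one_iff _).2 hxl
  exact orderOf_eq_one_iff.1 (Nat.eq_one_of_dvd_coprimes ((hq.coprime_iff_not_dvd).2 hl)
    (orderOf_dvd_of_pow_eq_one (hexp _ hbL)) (orderOf_dvd_of_pow_eq_one h1))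

/-- The criterion for solvable groups. -/
theorem isNilpotent_lcs_of_solvable [Group.IsSolvable G] {k : ℕ} (h : Cond k G) :
    Group.IsNilpotent ↥((⊤ : Subgroup G).lowerCentralSeries k) := by
  set F := Cfsg.fittingSubgroup G with hF
  haveI : F.Normal := Coprime.fitting_normal
  set π := QuotientGroup.mk' F with hπ
  haveI : Group.IsSolvable (G ⧸ F) := Group.isSolvable_of_surjective (QuotientGroup.mk'_surjective _)
  have hA : ∀ p : ℕ, p.Prime → ∀ y : G, IsComm k y → (∃ j, y ^ p ^ j = 1) →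
      π y ∈ Cfsg.pCore p (G ⧸ F) → y ∈ F := by
    intro p hp y hy ⟨j, hj⟩ hyM
    haveI := Fact.mk hp
    haveI := Coprime.pCore_normal' (G := G ⧸ F) p
    refine mem_fitting_of_centralizes (p := p) ((Cfsg.pCore p (G ⧸ F)).comap π) (fun m hm => ?_)
      hyM fun r hr hrp w hw => ?_
    · obtain ⟨i, hi⟩ := Coprime.pCore_isPGroup p ⟨π m, hm⟩
      exact ⟨i, (QuotientGroup.eq_one_iff _).1 (by
        rw [← QuotientGroup.mk'_apply, ← hπ, map_pow]; simpa using congrArg Subtype.val hi)⟩
    · haveI := Fact.mk hr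
      haveI := Coprime.pCore_normal' (G := G) r
      have hc : y * w * y⁻¹ * w⁻¹ ∈ Cfsg.pCore r G :=
        mul_mem ((inferInstance : (Cfsg.pCore r G).Normal).conj_mem w hw y) (inv_mem hw)
      obtain ⟨i, hi⟩ := Coprime.pCore_isPGroup r ⟨_, hc⟩
      refine h.commute hy w (Nat.Coprime.coprime_dvd_left
        (orderOf_dvd_of_pow_eq_one (by simpa using congrArg Subtype.val hi))
        (Nat.Coprime.coprime_dvd_right (orderOf_dvd_of_pow_eq_one hj) ?_))
      exact Nat.Coprime.pow _ _ ((Nat.coprime_primes hr hp).2 hrp)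
  have hB : ∀ p : ℕ, p.Prime → ∀ u ∈ Cfsg.pCore p (G ⧸ F), ∀ a : G ⧸ F, (orderOf a).Coprime p →
      Commute u a := by
    intro p hp u hu a ha
    haveI := Fact.mk hp
    haveI := Coprime.pCore_normal' (G := G ⧸ F) p
    by_contra hne
    obtain ⟨y, hy, hy2, hyP, hyF⟩ := exists_comm_lift k F (Coprime.pCore_isPGroup p) hu
      (by rw [normalizer_eq_top]; exact mem_top a) ha hne
    exact hyF (hA p hp y hy hy2 hyP)
  haveI := isNilpotent_of_centralizes hB
  have hall : ∀ x : G, IsComm k x → x ∈ F := by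
    intro x hx
    by_contra hxF
    have hn := (Group.isNilpotent_of_finite_tfae (G := G ⧸ F)).out 0 3 rfl rfl |>.1 inferInstance
    let e := Sylow.directProductOfNormal (G := G ⧸ F) (fun {p} {hp} P => hn p hp P)
    have hne : e.symm (π x) ≠ 1 := fun h1 => hxF ((QuotientGroup.eq_one_iff x).1
      (e.symm.injective (h1.trans (map_one _).symm)))
    obtain ⟨i, P, hiP⟩ : ∃ i P, e.symm (π x) i P ≠ 1 := by
      by_contra hcon
      push Not at hcon
      exact hne (funext fun i => funext fun P => hcon i P)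
    haveI := Fact.mk (Nat.prime_of_mem_primeFactors i.2)
    haveI : (P : Subgroup (G ⧸ F)).Normal := hn i inferInstance P
    have hcP : IsComm k (e.symm (π x) i P) :=
      (hx.map π).map (((Pi.evalMonoidHom (fun P : Sylow (i : ℕ) (G ⧸ F) => ↥P) P).comp
        (Pi.evalMonoidHom (fun i : (Nat.card (G ⧸ F)).primeFactors =>
          ∀ P : Sylow (i : ℕ) (G ⧸ F), ↥P) i)).comp e.symm.toMonoidHom)
    obtain ⟨Q, hQ, hmap, -⟩ := exists_lift (p := (i : ℕ)) F (P : Subgroup (G ⧸ F)) P.2
    let f : Q →* (P : Subgroup (G ⧸ F)) :=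
      (π.comp Q.subtype).codRestrict _ fun q => hmap ▸ mem_map_of_mem π q.2
    have hf : Function.Surjective f := fun d => by
      obtain ⟨q, hq, hqd⟩ := (hmap.symm ▸ d.2 : (d : G ⧸ F) ∈ Q.map π)
      exact ⟨⟨q, hq⟩, Subtype.ext hqd⟩
    obtain ⟨y, hy, hyeq⟩ := hcP.exists_preimage hf
    obtain ⟨j, hj⟩ := hQ y
    have hyF : (y : G) ∈ F := hA i (Nat.prime_of_mem_primeFactors i.2) y (hy.map Q.subtype)
      ⟨j, by simpa using congrArg Subtype.val hj⟩
      (Coprime.le_pCore P.2 (hmap ▸ mem_map_of_mem π y.2))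
    refine hiP (hyeq ▸ Subtype.ext ?_)
    exact (QuotientGroup.eq_one_iff _).2 hyF
  exact Coprime.isNilpotent_of_le (lowerCentralSeries_le k F hall) Coprime.fitting_isNilpotent

end CfsgLib.FTHarvest.CommOrder
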