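import Cfsg.Agent.Lib.Coprime.Component
import Cfsg.Agent.Lib.FT.NoMinSimple

/-!
# Conjugate cyclic 2-subgroups: at most one component

Every component has a 2-element outside its center with square in the center (odd order theorem).
For two components the product of two such elements has the same order as one of them, but it
centralizes fewer components.
-/

set_option autoImplicit false
set_option linter.unusedSectionVars false

open Subgroup

namespace CfsgLib.FTHarvest.ConjCyclicLayer

variable {G : Type*} [Group G] [Finite G]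

/-- Centralizing every component except possibly those in a given set. -/
def CenOff (S : Set (Subgroup G)) (w : G) : Prop :=
  ∀ K, Cfsg.IsComponent K → K ∉ S → ∀ k ∈ K, Commute k w

theorem CenOff.pow {S : Set (Subgroup G)} {w : G} (h : CenOff S w) (n : ℕ) : CenOff S (w ^ n) :=
  fun K hK hS k hk => (h K hK hS k hk).pow_right n

theorem cenOff_conj {S : Set (Subgroup G)} {w : G} (h : CenOff S w) (g : G) :
    CenOff ((fun K => K.map (MulAut.conj g).toMonoidHom) '' S) (g * w * g⁻¹) := by
  intro K hK hS k hk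
  have hK' : Cfsg.IsComponent (K.map (MulAut.conj g⁻¹).toMonoidHom) :=
    CfsgLib.Coprime.isComponent_map_equiv _ hK
  have hS' : K.map (MulAut.conj g⁻¹).toMonoidHom ∉ S := by
    intro hh
    refine hS ⟨_, hh, ?_⟩
    show (K.map _).map _ = K
    rw [Subgroup.map_map]
    convert K.map_id
    ext a
    simp [mul_assoc]
  have hkm : g⁻¹ * k * g ∈ K.map (MulAut.conj g⁻¹).toMonoidHom :=
    Subgroup.mem_map.2 ⟨k, hk, by simp⟩
  have hc := h _ hK' hS' _ hkm
  have e : g * (g⁻¹ * k * g) * g⁻¹ = k := by group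
  calc k * (g * w * g⁻¹) = g * ((g⁻¹ * k * g) * w) * g⁻¹ := by group
    _ = g * (w * (g⁻¹ * k * g)) * g⁻¹ := by rw [hc.eq]
    _ = g * w * g⁻¹ * k := by group

variable (hP : ∀ A B : Subgroup G, IsCyclic ↥A → IsCyclic ↥B → IsPGroup 2 ↥A →
  Nat.card ↥A = Nat.card ↥B → ∃ g : G, B = A.map (MulAut.conj g).toMonoidHom)
include hP

/-- An element of 2-power order centralizes all but at most as many components as another one of
the same order. -/
theorem cenOff_of_orderOf {u v : G} {a : ℕ} (hu : orderOf u = 2 ^ a) (hv : orderOf v = 2 ^ a)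
    {S : Set (Subgroup G)} (h : CenOff S u) :
    ∃ g : G, CenOff ((fun K => K.map (MulAut.conj g).toMonoidHom) '' S) v := by
  obtain ⟨g, hg⟩ := hP (zpowers u) (zpowers v) (Subgroup.isCyclic_zpowers u)
    (Subgroup.isCyclic_zpowers v) (IsPGroup.of_card (n := a) (by rw [Nat.card_zpowers, hu]))
    (by rw [Nat.card_zpowers, Nat.card_zpowers, hu, hv])
  refine ⟨g, ?_⟩
  have hmem : v ∈ (zpowers u).map (MulAut.conj g).toMonoidHom := hg ▸ mem_zpowers v
  rw [MonoidHom.map_zpowers] at hmem
  obtain ⟨i, hi⟩ := (isOfFinOrder_of_finite _).mem_powers_iff_mem_zpowers.2 hmem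
  rw [← hi]
  exact (cenOff_conj h g).pow i

omit hP in
/-- A component has a 2-element outside its center whose square is central. -/
theorem exists_two_element {K : Subgroup G} (hK : Cfsg.IsComponent K) :
    ∃ (x : G) (a : ℕ), orderOf x = 2 ^ a ∧ x ∈ K ∧ CenOff {K} x ∧ ¬ CenOff ∅ x ∧
      CenOff ∅ (x ^ 2) := by
  classical
  haveI : Fact (Nat.Prime 2) := ⟨Nat.prime_two⟩
  obtain ⟨P⟩ : Nonempty (Sylow 2 K) := Sylow.nonempty
  have hnle : ¬ (P : Subgroup K) ≤ center K := by
    intro hle
    have hdvd : (center K).index ∣ (P : Subgroup K).index := Subgroup.index_dvd_of_le hle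
    have hodd : Odd (Nat.card (K ⧸ center K)) := by
      rw [← Subgroup.index_eq_card]
      exact Odd.of_dvd_nat (Nat.not_even_iff_odd.1 fun h =>
        P.not_dvd_index (even_iff_two_dvd.1 h)) hdvd
    haveI := hK.2.1
    have hsol : Group.IsSolvable (K ⧸ center K) := CfsgLib.FT.isSolvable_of_odd _ hodd
    haveI := hK.2.2
    haveI : Group.IsPerfect (K ⧸ center K) :=
      Group.IsPerfect.ofSurjective (QuotientGroup.mk'_surjective _)
    exact Group.IsPerfect.not_isSolvable _ hsol
  obtain ⟨u, huP, hu⟩ : ∃ u, u ∈ (P : Subgroup K) ∧ u ∉ center K := SetLike.not_le_iff_exists.1 hnle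
  obtain ⟨n, hn⟩ := P.2 ⟨u, huP⟩
  have hn' : u ^ 2 ^ n = 1 := congrArg Subtype.val hn
  have hex : ∃ j, u ^ 2 ^ j ∈ center K := ⟨n, hn' ▸ one_mem _⟩
  have hj : Nat.find hex ≠ 0 := fun h => hu (by simpa [h] using Nat.find_spec hex)
  obtain ⟨j, hj'⟩ : ∃ j, Nat.find hex = j + 1 := Nat.exists_eq_succ_of_ne_zero hj
  have hsq : (u ^ 2 ^ j) ^ 2 ∈ center K := by
    rw [← pow_mul, ← pow_succ, ← hj']; exact Nat.find_spec hex
  have hnot : u ^ 2 ^ j ∉ center K := Nat.find_min hex (by omega)
  set x : K := u ^ 2 ^ j with hx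
  obtain ⟨a, ha⟩ : ∃ a, orderOf x = 2 ^ a := by
    obtain ⟨k, -, hk⟩ := (Nat.dvd_prime_pow Nat.prime_two).1 (orderOf_dvd_of_pow_eq_one (x := x)
      (show x ^ 2 ^ n = 1 by rw [hx, ← pow_mul, mul_comm, pow_mul, hn', one_pow]))
    exact ⟨k, hk⟩
  have hoff : CenOff {K} (x : G) := fun L hL hne k hk =>
    CfsgLib.Coprime.commutator_eq_bot_iff_forall.1
      (CfsgLib.Coprime.components_commute hL hK (fun hh => hne hh)) k hk x x.2
  refine ⟨x, a, by rw [Subgroup.orderOf_coe, ha], x.2, hoff, fun h => hnot ?_, ?_⟩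
  · exact mem_center_iff.2 fun k => Subtype.ext (h K hK (Set.notMem_empty K) k k.2).eq
  · intro L hL _ k hk
    by_cases hLK : L = K
    · subst hLK
      exact congrArg Subtype.val (mem_center_iff.1 hsq ⟨k, hk⟩)
    · exact (hoff L hL hLK k hk).pow_right 2

/-- Elements of the same 2-power order centralize every component at the same time. -/
theorem cenOff_empty_iff {u v : G} {a : ℕ} (hu : orderOf u = 2 ^ a) (hv : orderOf v = 2 ^ a)
    (h : CenOff ∅ u) : CenOff ∅ v := by
  obtain ⟨g, hg⟩ := cenOff_of_orderOf hP hu hv h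
  rwa [Set.image_empty] at hg

/-- An element outside the common centralizer has at least the order of one with central square. -/
theorem le_of_not_cenOff {u v : G} {a b : ℕ} (hu : orderOf u = 2 ^ a) (hv : orderOf v = 2 ^ b)
    (hu2 : CenOff ∅ (u ^ 2)) (hvn : ¬ CenOff ∅ v) : a ≤ b := by
  by_contra hlt
  obtain ⟨d, rfl⟩ : ∃ d, a = b + (d + 1) := ⟨a - b - 1, by omega⟩
  refine hvn (cenOff_empty_iff hP (u := (u ^ 2) ^ 2 ^ d) ?_ hv (hu2.pow _))
  rw [← pow_mul, ← pow_succ', orderOf_pow_of_dvd (by positivity)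
    (by rw [hu]; exact pow_dvd_pow 2 (by omega)), hu, Nat.pow_div (by omega) (by norm_num)]
  congr 1; omega

/-- There is only one component. -/
theorem component_eq {K L : Subgroup G} (hK : Cfsg.IsComponent K) (hL : Cfsg.IsComponent L) :
    K = L := by
  by_contra hne
  obtain ⟨x, a, hxo, hxK, hxoff, hxn, hx2⟩ := exists_two_element hK
  obtain ⟨y, b, hyo, hyL, hyoff, hyn, hy2⟩ := exists_two_element hL
  obtain rfl : a = b := le_antisymm (le_of_not_cenOff hP hxo hyo hx2 hyn)
    (le_of_not_cenOff hP hyo hxo hy2 hxn)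
  have hc : Commute x y := CfsgLib.Coprime.commutator_eq_bot_iff_forall.1
    (CfsgLib.Coprime.components_commute hK hL hne) x hxK y hyL
  have hxy_off : ∀ {P Q : Subgroup G} {s t : G}, P ≠ Q → Cfsg.IsComponent P → CenOff {Q} t →
      ¬ CenOff ∅ s → CenOff {P} s → ¬ ∀ k ∈ P, Commute k (s * t) := by
    intro P Q s t hPQ hP' ht hsn hs hall
    refine hsn fun M hM _ k hk => ?_
    by_cases hMP : M = P
    · subst hMP
      have h1 := (hall k hk).mul_right ((ht M hM hPQ k hk).inv_right)
      rwa [mul_inv_cancel_right] at h1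
    · exact hs M hM hMP k hk
  have hKn : ¬ ∀ k ∈ K, Commute k (x * y) := hxy_off hne hK hyoff hxn hxoff
  have hLn : ¬ ∀ k ∈ L, Commute k (x * y) := by
    rw [hc.eq]; exact hxy_off (Ne.symm hne) hL hxoff hyn hyoff
  have hd : orderOf (x * y) ∣ 2 ^ a := by
    refine hc.orderOf_mul_dvd_lcm.trans ?_
    rw [hxo, hyo, Nat.lcm_self]
  obtain ⟨c, hca, hco⟩ := (Nat.dvd_prime_pow Nat.prime_two).1 hd
  have hn : ¬ CenOff ∅ (x * y) := fun h => hKn (h K hK (Set.notMem_empty K))
  obtain rfl : a = c := le_antisymm (le_of_not_cenOff hP hxo hco hx2 hn) hca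
  obtain ⟨g, hg⟩ := cenOff_of_orderOf hP hxo hco hxoff
  rw [Set.image_singleton] at hg
  have h1 : K = K.map (MulAut.conj g).toMonoidHom := by
    by_contra h; exact hKn (hg K hK h)
  have h2 : L = K.map (MulAut.conj g).toMonoidHom := by
    by_contra h; exact hLn (hg L hL h)
  exact hne (h1.trans h2.symm)

/-- The layer is quasisimple. -/
theorem main (hE : Cfsg.layer G ≠ ⊥) :
    IsSimpleGroup (↥(Cfsg.layer G) ⧸ center ↥(Cfsg.layer G)) ∧
      ¬ IsMulCommutative (↥(Cfsg.layer G) ⧸ center ↥(Cfsg.layer G)) := by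
  obtain ⟨K, hK⟩ : ∃ K : Subgroup G, Cfsg.IsComponent K := by
    by_contra h
    push Not at h
    exact hE (le_bot_iff.1 (sSup_le fun K hK => absurd hK (h K)))
  have hEK : Cfsg.layer G = K :=
    le_antisymm (sSup_le fun L hL => (component_eq hP hL hK).le) (CfsgLib.Coprime.component_le_layer hK)
  rw [hEK]
  refine ⟨hK.2.2, fun h => ?_⟩
  haveI := hK.2.1
  haveI := hK.2.2
  haveI : Group.IsPerfect (K ⧸ center K) :=
    Group.IsPerfect.ofSurjective (QuotientGroup.mk'_surjective _)
  exact Group.IsPerfect.not_isSolvable _ (Group.isSolvable_of_comm fun a b => h.is_comm.comm a b)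

end CfsgLib.FTHarvest.ConjCyclicLayer
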