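import Cfsg.Agent.Lib.FTHarvest.Invariant
import Cfsg.Agent.Lib.Fusion.ThompsonComplement
import Cfsg.Agent.Lib.PGroup.FixedPointFree
import Cfsg.Agent.Lib.CFun.OddTypePBasic

/-!
# Coprime action with nilpotent proper invariant subgroups

Given the odd order theorem: if `A` acts coprimely on `G` and every proper `A`-invariant subgroup is nilpotent,
then `G` is solvable, and if it is not nilpotent its order has two prime divisors and a Sylow subgroup is normal.
-/

set_option autoImplicit false
set_option linter.unusedSectionVars false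
set_option linter.style.haveILetI false

open Subgroup

namespace CfsgLib.FTHarvest

universe u v

variable {A : Type v} [Group A] [Finite A]

theorem solvable_of_nilpotent_invariant
    (FTA : Odd (Nat.card A) → Group.IsSolvable A)
    (FT : ∀ (H : Type u) [Group H] [Finite H], Odd (Nat.card H) → Group.IsSolvable H) :
    ∀ (n : ℕ) (G : Type u) [Group G] [Finite G] [MulDistribMulAction A G], Nat.card G = n →
      (Nat.card A).Coprime (Nat.card G) →
      (∀ H : Subgroup G, H ≠ ⊤ → Inv A H → Group.IsNilpotent H) → Group.IsSolvable G := by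
  intro n
  induction n using Nat.strong_induction_on with
  | _ n ih =>
  intro G _ _ _ hn hcop hnil
  classical
  by_cases hN : ∃ N : Subgroup G, N.Normal ∧ Inv A N ∧ N ≠ ⊥ ∧ N ≠ ⊤
  · obtain ⟨N, hNn, hNi, hN1, hN2⟩ := hN
    haveI := hNn
    haveI := hnil N hN2 hNi
    letI := MulDistribMulAction.compHom (G ⧸ N) (quotAut A N hNi.map_eq)
    have hlt : Nat.card (G ⧸ N) < n := by
      rw [← hn, card_eq_card_quotient_mul_card_subgroup N]
      exact lt_mul_of_one_lt_right Nat.card_pos ((one_lt_card_iff_ne_bot N).2 hN1)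
    have hq : Group.IsSolvable (G ⧸ N) := by
      refine ih _ hlt (G ⧸ N) rfl (hcop.coprime_dvd_right (card_quotient_dvd_card N)) fun H hH hHi => ?_
      have hinv : Inv A (H.comap (QuotientGroup.mk' N)) := fun a x hx => hHi a _ hx
      haveI := hnil _ (fun e => hH (by
        rw [← map_comap_eq_self_of_surjective (QuotientGroup.mk'_surjective N) H, e,
          map_top_of_surjective _ (QuotientGroup.mk'_surjective N)])) hinv
      exact Group.nilpotent_of_surjective ((QuotientGroup.mk' N).subgroupComap H)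
        (MonoidHom.subgroupComap_surjective_of_surjective _ _ (QuotientGroup.mk'_surjective N))
    exact Group.isSolvable_of_ker_le_range N.subtype (QuotientGroup.mk' N) (by simp)
  push Not at hN
  rcases Nat.even_or_odd (Nat.card G) with hev | hodd
  swap
  · exact FT G hodd
  by_cases hp : ∃ p : ℕ, p.Prime ∧ p ≠ 2 ∧ p ∣ Nat.card G
  swap
  · push Not at hp
    haveI : Group.IsNilpotent G := (IsPGroup.of_card (p := 2) (n := (Nat.card G).factorization 2) <| by
      refine Nat.eq_of_factorization_eq Nat.card_pos.ne' (by positivity) fun q => ?_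
      by_cases hq : q.Prime
      · by_cases h2 : q = 2
        · subst h2; simp [Nat.prime_two.factorization_pow]
        · rw [Nat.prime_two.factorization_pow, Finsupp.single_eq_of_ne h2,
            Nat.factorization_eq_zero_of_not_dvd (hp q hq h2)]
      · simp [Nat.factorization_eq_zero_of_not_prime _ hq]).isNilpotent
    infer_instance
  obtain ⟨p, hp, hp2, hpG⟩ := hp
  haveI := Fact.mk hp
  obtain ⟨P, hP⟩ := exists_inv_sylow hcop (Or.inl (FTA (Nat.coprime_two_left.1
    ((hcop.symm).coprime_dvd_left hev.two_dvd)))) p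
  have hP1 : (P : Subgroup G) ≠ ⊥ := P.ne_bot_of_dvd_card hpG
  have hPt : (P : Subgroup G) ≠ ⊤ := fun e => by
    have h2 : 2 ∣ Nat.card (P : Subgroup G) := by rw [e, card_top]; exact hev.two_dvd
    obtain ⟨k, hk⟩ := IsPGroup.iff_card.1 P.2
    exact hp2 ((Nat.prime_dvd_prime_iff_eq Nat.prime_two hp).1 (Nat.prime_two.dvd_of_dvd_pow (hk ▸ h2))).symm
  have hcompl : ∀ H : Subgroup G, Inv A H → H ≠ ⊥ → H ≤ P →
      ∀ L : Subgroup G, L ≤ normalizer (H : Set G) → Inv A L → Cfsg.HasNormalPComplement p L := by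
    intro H hHi hH1 hHP L hL hLi
    have hLt : L ≠ ⊤ := fun e => by
      haveI : H.Normal := normalizer_eq_top_iff.1 (top_le_iff.1 (e ▸ hL))
      exact hPt (top_le_iff.1 ((hN H inferInstance hHi hH1).symm.le.trans hHP))
    haveI := hnil L hLt hLi
    exact CfsgLib.PGroup.hasNormalPComplement_of_isNilpotent p
  have hZ : Inv A (CfsgLib.Fusion.centerOf (P : Subgroup G)) := hP.inf hP.centralizer
  obtain ⟨P', K, hKn, hKc⟩ := CfsgLib.Fusion.hasNormalPComplement_of_thompson hp2 G P
    (hcompl _ (hP.thompson p) (CfsgLib.Fusion.thompsonSubgroupOf_ne_bot P.2 hP1)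
      (CfsgLib.Fusion.thompsonSubgroupOf_le _) _ le_rfl (hP.thompson p).normalizer)
    (hcompl _ hZ (CfsgLib.Fusion.centerOf_ne_bot P.2 hP1) inf_le_left _
      (Subgroup.centralizer_le_normalizer _) hZ.centralizer)
  haveI := CfsgLib.Coprime.pPrimeCore_characteristic (G := G) p
  have hcore : Cfsg.pPrimeCore p G = ⊤ := by
    refine hN _ inferInstance (inv_of_characteristic _) fun e => ?_
    have hK1 : K ≤ Cfsg.pPrimeCore p G := by
      refine le_sSup ⟨hKn, ?_⟩
      rw [← hKc.index_eq_card]
      exact ((Fact.out : p.Prime).coprime_iff_not_dvd.2 P'.not_dvd_index).symm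
    rw [e, le_bot_iff] at hK1
    have h := hKc.sup_eq_top
    rw [hK1, bot_sup_eq] at h
    exact hPt (eq_top_of_card_eq _ (by rw [P.card_eq_multiplicity, ← P'.card_eq_multiplicity, h, card_top]))
  exact absurd (by rwa [hcore, card_top]) (CfsgLib.Coprime.pPrimeCore_not_dvd (G := G) hp)

/-- The structure of `G`. -/
theorem structure_of_nilpotent_invariant {G : Type u} [Group G] [Finite G] [MulDistribMulAction A G]
    (FTA : Odd (Nat.card A) → Group.IsSolvable A)
    (FT : ∀ (H : Type u) [Group H] [Finite H], Odd (Nat.card H) → Group.IsSolvable H)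
    (hcop : (Nat.card A).Coprime (Nat.card G))
    (hnil : ∀ H : Subgroup G, H ≠ ⊤ → Inv A H → Group.IsNilpotent H) (hG : ¬ Group.IsNilpotent G) :
    Group.IsSolvable G ∧ (∃ p q a b : ℕ, p.Prime ∧ q.Prime ∧ p ≠ q ∧ Nat.card G = p ^ a * q ^ b) ∧
      ∃ (p : ℕ) (P : Sylow p G), p.Prime ∧ p ∣ Nat.card G ∧ (P : Subgroup G).Normal ∧ Inv A (P : Subgroup G) := by
  classical
  have hsol := solvable_of_nilpotent_invariant FTA FT _ G rfl hcop hnil
  haveI : Nontrivial G := by
    by_contra h
    rw [not_nontrivial_iff_subsingleton] at h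
    exact hG Group.isNilpotent_of_subsingleton
  have hD : commutator G ≠ ⊤ := (Group.IsSolvable.commutator_lt_top_of_nontrivial G).ne
  have hDi : Inv A (commutator G) := inv_of_characteristic _
  obtain ⟨q, hq, Q₀, hQ₀⟩ : ∃ q, q.Prime ∧ ∃ Q : Sylow q G, ¬ (Q : Subgroup G).Normal := by
    by_contra! h
    have e := (Group.isNilpotent_of_finite_tfae (G := G)).out 0 3
    rw [e] at hG
    exact hG fun p hp P => h p hp.out P
  haveI := Fact.mk hq
  obtain ⟨Q, hQi⟩ := exists_inv_sylow hcop (Or.inr hsol) q
  have hQn : ¬ (Q : Subgroup G).Normal := fun h => hQ₀ (by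
    haveI := Sylow.unique_of_normal Q h
    rwa [Subsingleton.elim Q₀ Q])
  have htop : commutator G ⊔ (Q : Subgroup G) = ⊤ := by
    by_contra ht
    haveI := hnil _ ht (hDi.sup hQi)
    haveI hHn : (commutator G ⊔ (Q : Subgroup G)).Normal := Normal.of_commutator_le (G := G) le_sup_left
    haveI : ((Q.subtype le_sup_right : Sylow q ↥(commutator G ⊔ (Q : Subgroup G))) :
        Subgroup ↥(commutator G ⊔ (Q : Subgroup G))).Normal :=
      Sylow.normal_of_normalizerCondition Group.normalizerCondition_of_isNilpotent _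
    haveI := Sylow.characteristic_of_normal (Q.subtype le_sup_right : Sylow q ↥(commutator G ⊔ (Q : Subgroup G)))
      inferInstance
    refine hQn ?_
    have h2 : ((Q.subtype le_sup_right : Sylow q ↥(commutator G ⊔ (Q : Subgroup G))) :
        Subgroup ↥(commutator G ⊔ (Q : Subgroup G))).map (commutator G ⊔ (Q : Subgroup G)).subtype = Q :=
      map_subgroupOf_eq_of_le le_sup_right
    rw [← h2]
    infer_instance
  haveI := hnil _ hD hDi
  -- the other Sylow subgroups are normal
  have hnorm : ∀ r : ℕ, r.Prime → r ≠ q → ∀ R : Sylow r G, (R : Subgroup G).Normal := by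
    intro r hr hrq R
    haveI := Fact.mk hr
    obtain ⟨R₁⟩ : Nonempty (Sylow r ↥(commutator G)) := inferInstance
    haveI : (R₁ : Subgroup ↥(commutator G)).Normal :=
      Sylow.normal_of_normalizerCondition Group.normalizerCondition_of_isNilpotent R₁
    haveI := R₁.characteristic_of_normal inferInstance
    have hidx : ¬ r ∣ (commutator G).index := by
      intro hd
      have h1 : (commutator G).index ∣ Nat.card (Q : Subgroup G) := by
        have h := relIndex_sup_left (Q : Subgroup G) (commutator G)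
        rw [htop, relIndex_top_right] at h
        rw [h]
        exact relIndex_dvd_card _ _
      obtain ⟨k, hk⟩ := IsPGroup.iff_card.1 Q.2
      exact hrq ((Nat.prime_dvd_prime_iff_eq hr hq).1 (hr.dvd_of_dvd_pow (hk ▸ hd.trans h1)))
    let R₂ : Sylow r G := Sylow.ofCard ((R₁ : Subgroup ↥(commutator G)).map (commutator G).subtype) (by
      rw [card_map_of_injective (commutator G).subtype_injective, R₁.card_eq_multiplicity,
        ← card_mul_index (commutator G),
        Nat.factorization_mul Nat.card_pos.ne' index_ne_zero_of_finite, Finsupp.add_apply,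
        Nat.factorization_eq_zero_of_not_dvd hidx, add_zero])
    have hR₂ : (R₂ : Subgroup G).Normal :=
      show ((R₁ : Subgroup ↥(commutator G)).map (commutator G).subtype).Normal from inferInstance
    haveI := Sylow.unique_of_normal R₂ hR₂
    rwa [Subsingleton.elim R R₂]
  have hone : ∀ r s : ℕ, r.Prime → s.Prime → r ≠ q → s ≠ q → r ∣ Nat.card G → s ∣ Nat.card G → r = s := by
    intro r s hr hs hrq hsq hrG hsG
    by_contra hrs
    refine hQn (normalizer_eq_top_iff.1 (eq_top_of_card_eq _ (Nat.dvd_antisymm (card_subgroup_dvd_card _)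
      ((Nat.dvd_iff_prime_pow_dvd_dvd _ _).2 fun t k ht htk => ?_))))
    haveI := Fact.mk ht
    rcases Nat.eq_zero_or_pos k with rfl | hk0
    · simp
    have htG : t ∣ Nat.card G := (dvd_pow_self t hk0.ne').trans htk
    by_cases htq : t = q
    · subst htq
      exact (Q.pow_dvd_card_of_pow_dvd_card htk).trans (card_dvd_of_le le_normalizer)
    obtain ⟨T⟩ : Nonempty (Sylow t G) := inferInstance
    haveI := hnorm t ht htq T
    haveI := T.characteristic_of_normal inferInstance
    have hH : (T : Subgroup G) ⊔ (Q : Subgroup G) ≠ ⊤ := by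
      intro e
      obtain ⟨u, hu, huT, huQ, huG⟩ : ∃ u, u.Prime ∧ u ≠ t ∧ u ≠ q ∧ u ∣ Nat.card G := by
        by_cases htr : t = r
        · exact ⟨s, hs, fun h => hrs (htr ▸ h.symm), hsq, hsG⟩
        · exact ⟨r, hr, fun h => htr h.symm, hrq, hrG⟩
      have h1 : (T : Subgroup G).index ∣ Nat.card (Q : Subgroup G) := by
        have h := relIndex_sup_left (Q : Subgroup G) (T : Subgroup G)
        rw [e, relIndex_top_right] at h
        rw [h]
        exact relIndex_dvd_card _ _
      obtain ⟨i, hi⟩ := IsPGroup.iff_card.1 T.2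
      obtain ⟨j, hj⟩ := IsPGroup.iff_card.1 Q.2
      have h2 : u ∣ t ^ i * q ^ j := by
        rw [← hi, ← hj]
        exact (card_mul_index (T : Subgroup G) ▸ huG).trans (Nat.mul_dvd_mul_left _ h1)
      rcases (Nat.Prime.dvd_mul hu).1 h2 with h | h
      · exact huT ((Nat.prime_dvd_prime_iff_eq hu ht).1 (hu.dvd_of_dvd_pow h))
      · exact huQ ((Nat.prime_dvd_prime_iff_eq hu hq).1 (hu.dvd_of_dvd_pow h))
    haveI := hnil _ hH ((inv_of_characteristic _).sup hQi)
    refine (T.pow_dvd_card_of_pow_dvd_card htk).trans (card_dvd_of_le fun x hx => ?_)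
    refine centralizer_le_normalizer _ (mem_centralizer_iff.2 fun y hy => ?_)
    have hc := CfsgLib.CFun.commute_of_coprime_order
      (x := (⟨y, mem_sup_right hy⟩ : ↥((T : Subgroup G) ⊔ (Q : Subgroup G))))
      (y := ⟨x, mem_sup_left hx⟩) (by
        rw [orderOf_mk, orderOf_mk]
        obtain ⟨i, hi⟩ := T.2 ⟨x, hx⟩
        obtain ⟨j, hj⟩ := Q.2 ⟨y, hy⟩
        refine Nat.Coprime.coprime_dvd_right (orderOf_dvd_of_pow_eq_one (congrArg Subtype.val hi))
          (Nat.Coprime.coprime_dvd_left (orderOf_dvd_of_pow_eq_one (congrArg Subtype.val hj)) ?_)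
        exact ((Nat.coprime_primes hq ht).2 (fun h => htq h.symm)).pow _ _)
    exact congrArg Subtype.val hc.eq
  obtain ⟨r, hr, hrq, hrG⟩ : ∃ r, r.Prime ∧ r ≠ q ∧ r ∣ Nat.card G := by
    by_contra! h
    refine hQn ?_
    rw [show (Q : Subgroup G) = ⊤ from eq_top_of_card_eq _ (Nat.dvd_antisymm (card_subgroup_dvd_card _)
      ((Nat.dvd_iff_prime_pow_dvd_dvd _ _).2 fun t k ht htk => ?_))]
    · infer_instance
    rcases Nat.eq_zero_or_pos k with rfl | hk0
    · simp
    obtain rfl : t = q := by_contra fun htq => h t ht htq ((dvd_pow_self t hk0.ne').trans htk)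
    exact Q.pow_dvd_card_of_pow_dvd_card htk
  haveI := Fact.mk hr
  obtain ⟨R⟩ : Nonempty (Sylow r G) := inferInstance
  haveI := hnorm r hr hrq R
  haveI := R.characteristic_of_normal inferInstance
  refine ⟨hsol, ⟨r, q, (Nat.card G).factorization r, (Nat.card G).factorization q, hr, hq, hrq, ?_⟩,
    r, R, hr, hrG, inferInstance, inv_of_characteristic _⟩
  refine Nat.eq_of_factorization_eq Nat.card_pos.ne'
    (Nat.mul_ne_zero (pow_ne_zero _ hr.ne_zero) (pow_ne_zero _ hq.ne_zero)) fun t => ?_
  rw [Nat.factorization_mul (pow_ne_zero _ hr.ne_zero) (pow_ne_zero _ hq.ne_zero), Finsupp.add_apply,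
    hr.factorization_pow, hq.factorization_pow]
  by_cases htr : t = r
  · subst htr; simp [Finsupp.single_eq_of_ne hrq]
  by_cases htq : t = q
  · subst htq; simp [Finsupp.single_eq_of_ne htr]
  rw [Finsupp.single_eq_of_ne htr, Finsupp.single_eq_of_ne htq]
  by_cases ht : t.Prime
  · refine Nat.factorization_eq_zero_of_not_dvd fun htG => htr ?_
    exact hone t r ht hr htq hrq htG hrG
  · exact Nat.factorization_eq_zero_of_not_prime _ ht

end CfsgLib.FTHarvest
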