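import Cfsg.Agent.Lib.FTHarvest.CyclicInterMax
import Cfsg.Agent.Lib.Invol.ZStar
import Cfsg.Agent.Lib.Invol.OddCore
import Cfsg.Agent.S3305
import Cfsg.Prelude.Def_CaseTheorems

/-!
# Solvable radical when Sylow 2-intersections are cyclic

If `G` is not solvable, has no odd normal subgroup and distinct Sylow 2-subgroups meet in cyclic
groups, then `O₂(G)` is cyclic, central and contains every solvable normal subgroup.
The odd order theorem enters as a hypothesis.
-/

set_option autoImplicit false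
set_option linter.unusedSectionVars false
set_option linter.style.haveILetI false

open Subgroup

namespace CfsgLib.FTHarvest.CyclicInter

variable {G : Type*} [Group G] [Finite G]

/-- `a` is an involution modulo `Q`, central modulo `Q` in `S`. -/
structure QInvol (Q : Subgroup G) (S : Sylow 2 G) (a : G) : Prop where
  mem : a ∈ (S : Subgroup G)
  notMem : a ∉ Q
  sq : a * a ∈ Q
  cent : (S : Subgroup G) ≤ centMod Q a

variable {Q : Subgroup G} {S : Sylow 2 G}

theorem mem_normalizer_top [Q.Normal] (g : G) : g ∈ normalizer (Q : Set G) := by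
  rw [normalizer_eq_top]; exact mem_top g

theorem QInvol.conj [Q.Normal] {a m : G} (h : QInvol Q S a) (hm : m ∈ normalizer (S : Set G)) :
    QInvol Q S (m * a * m⁻¹) := by
  refine ⟨conj_mem hm h.mem, fun hn => h.notMem ?_, ?_, fun s hs => ?_⟩
  · have := conj_mem' (mem_normalizer_top m) hn
    rwa [show m⁻¹ * (m * a * m⁻¹) * m = a by group] at this
  · rw [show m * a * m⁻¹ * (m * a * m⁻¹) = m * (a * a) * m⁻¹ by group]
    exact conj_mem (mem_normalizer_top m) h.sq
  · have := conj_mem_centMod (mem_normalizer_top m) (h.cent (conj_mem' hm hs))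
    rwa [show m * (m⁻¹ * s * m) * m⁻¹ = s by group] at this

theorem QInvol.mul [Q.Normal] {a b : G} (ha : QInvol Q S a) (hb : QInvol Q S b) (h : a * b ∉ Q) :
    QInvol Q S (a * b) := by
  refine ⟨mul_mem ha.mem hb.mem, h, ?_, fun s hs =>
    centMod_mul (mem_normalizer_top a) (ha.cent hs) (hb.cent hs)⟩
  have h1 := (ha.cent hb.mem).2
  rw [show a * b * (a * b) = a * (b * a * b⁻¹ * a⁻¹) * a⁻¹ * (a * a) * (b * b) by group]
  exact mul_mem (mul_mem (conj_mem (mem_normalizer_top a) h1) ha.sq) hb.sq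

theorem QInvol.mul_inv [Q.Normal] {a b : G} (ha : QInvol Q S a) (hb : QInvol Q S b)
    (h : a * b⁻¹ ∉ Q) : QInvol Q S (a * b⁻¹) := by
  refine ha.mul ⟨inv_mem hb.mem, fun hn => hb.notMem (by simpa using inv_mem hn), ?_, fun s hs =>
    centMod_inv (mem_normalizer_top b) (hb.cent hs)⟩ h
  rw [show b⁻¹ * b⁻¹ = (b * b)⁻¹ by group]
  exact inv_mem hb.sq

theorem QInvol.cinvol [Q.Normal] {a : G} {D : Subgroup G} (h : QInvol Q S a) (hQD : Q ≤ D)
    (hD : D ≤ (S : Subgroup G)) (ha : a ∉ D) : CInvol S D a := by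
  refine ⟨h.mem, mem_normalizer_of_conj_le fun x hx => ?_, ha, hQD h.sq,
    fun s hs => ⟨hs.2, hQD (h.cent hs.1).2⟩⟩
  have h1 := (centMod_symm (mem_normalizer_top a) (h.cent (hD hx))).2
  rw [show a * x * a⁻¹ = a * x * a⁻¹ * x⁻¹ * x by group]
  exact mul_mem (hQD h1) hx

/-- A half of an even power: if `i` centralises `Q` and `i²` is a square in `Q`, the coset `iQ`
contains an element of square one. -/
theorem exists_sq_one {a i : G} (ha : a ∈ Q) (hi : i ∈ centralizer (Q : Set G)) {m : ℤ}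
    (hm : i * i = a ^ m) (he : Even m) : ∃ q ∈ Q, i * q * (i * q) = 1 := by
  obtain ⟨l, rfl⟩ := he
  have hq : a ^ (-l) ∈ Q := zpow_mem ha _
  refine ⟨a ^ (-l), hq, ?_⟩
  rw [mul_assoc i, ← mul_assoc (a ^ (-l)) i, mem_centralizer_iff.1 hi _ hq, ← mul_assoc,
    ← mul_assoc, hm, mul_assoc, ← zpow_add, ← zpow_add]
  simp

/-- A four-group modulo a central cyclic subgroup of order at least four has an element of square
one outside it. -/
theorem exists_sq_one_of_four [IsCyclic Q] (h4 : 4 ∣ Nat.card Q) {u w : G}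
    (hu : u ∈ centralizer (Q : Set G)) (hw : w ∈ centralizer (Q : Set G)) (hu2 : u * u ∈ Q)
    (hw2 : w * w ∈ Q) (hwu : w * u * w⁻¹ * u⁻¹ ∈ Q) :
    ∃ i, (i = u ∨ i = w ∨ i = u * w) ∧ ∃ q ∈ Q, i * q * (i * q) = 1 := by
  obtain ⟨g, hg⟩ := IsCyclic.exists_generator (α := Q)
  have hgen : ∀ x ∈ Q, ∃ m : ℤ, (g : G) ^ m = x := fun x hx => by
    obtain ⟨m, hm⟩ := mem_zpowers_iff.1 (hg ⟨x, hx⟩)
    exact ⟨m, by rw [← coe_zpow, hm]⟩
  set q := w * u * w⁻¹ * u⁻¹ with hqdef
  obtain ⟨m, hm⟩ := hgen _ hu2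
  obtain ⟨n, hn⟩ := hgen _ hw2
  obtain ⟨k, hk⟩ := hgen q hwu
  have hqu : u * q = q * u := (mem_centralizer_iff.1 hu q hwu).symm
  have hq2 : q * q = 1 := by
    have h1 : w * (u * u) * w⁻¹ = u * u := by
      rw [← mem_centralizer_iff.1 hw _ hu2, mul_inv_cancel_right]
    have h2 : w * (u * u) * w⁻¹ = q * (u * q) * u := by rw [hqdef]; group
    rw [hqu, h1, ← mul_assoc, mul_assoc (q * q)] at h2
    exact right_eq_mul.1 h2
  have hke : Even k := by
    have h1 : (g : G) ^ (k + k) = 1 := by rw [zpow_add, hk, hq2]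
    have h2 : ((orderOf (g : G) : ℕ) : ℤ) ∣ k + k := orderOf_dvd_iff_zpow_eq_one.2 h1
    have h3 : orderOf (g : G) = Nat.card Q := by
      rw [Subgroup.orderOf_coe]; exact orderOf_eq_card_of_forall_mem_zpowers hg
    obtain ⟨c, hc⟩ := (Int.natCast_dvd_natCast.2 h4).trans (h3 ▸ h2)
    exact ⟨c, by push_cast at hc; omega⟩
  rcases Int.even_or_odd m with he | hmo
  · exact ⟨u, Or.inl rfl, exists_sq_one g.2 hu hm.symm he⟩
  rcases Int.even_or_odd n with he | hno
  · exact ⟨w, Or.inr (Or.inl rfl), exists_sq_one g.2 hw hn.symm he⟩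
  refine ⟨u * w, Or.inr (Or.inr rfl), exists_sq_one g.2 (mul_mem hu hw) (m := k + (m + n)) ?_
    (hke.add (hmo.add_odd hno))⟩
  rw [zpow_add, zpow_add, hk, hm, hn,
    show u * w * (u * w) = u * q * u * (w * w) by rw [hqdef]; group, hqu]
  group

theorem exists_two_pow_mul_odd (g : G) : ∃ a b : ℕ, 2 ^ a * b = orderOf g ∧ Odd b :=
  ⟨_, _, Nat.ordProj_mul_ordCompl_eq_self (orderOf g) 2,
    Nat.coprime_two_left.1 (Nat.coprime_ordCompl Nat.prime_two (orderOf_pos g).ne')⟩

theorem two_group_decomp {C : Subgroup G} (hodd : ∀ g : G, Odd (orderOf g) → g ∈ C)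
    (htwo : ∀ g : G, (∃ k : ℕ, g ^ 2 ^ k = 1) → g ∈ C) : C = ⊤ := by
  refine eq_top_iff.2 fun g _ => ?_
  obtain ⟨a, b, hab, hbodd⟩ := exists_two_pow_mul_odd g
  have h1 : g ^ 2 ^ a ∈ C := hodd _ (by
    rw [orderOf_pow, Nat.gcd_eq_right (Dvd.intro _ hab), ← hab,
      Nat.mul_div_cancel_left _ (Nat.two_pow_pos a)]
    exact hbodd)
  have h2 : g ^ b ∈ C := htwo _ ⟨a, by rw [← pow_mul, mul_comm, hab, pow_orderOf_eq_one]⟩
  have hcop : Nat.gcd (2 ^ a) b = 1 :=
    (Nat.Coprime.pow_left a (Nat.coprime_two_left.2 hbodd))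
  have h3 : g ^ ((Nat.gcd (2 ^ a) b : ℕ) : ℤ) ∈ C := by
    rw [Nat.gcd_eq_gcd_ab, zpow_add, zpow_mul, zpow_mul, zpow_natCast, zpow_natCast]
    exact mul_mem (zpow_mem h1 _) (zpow_mem h2 _)
  simpa [hcop] using h3

theorem not_sylow_le_centralizer [Q.Normal] [IsCyclic Q] (hQ : IsPGroup 2 Q)
    (hQc : ¬ Q ≤ center G) : ¬ (S : Subgroup G) ≤ centralizer (Q : Set G) := by
  haveI : Fact (Nat.Prime 2) := ⟨Nat.prime_two⟩
  intro hS
  have hC : centralizer (Q : Set G) = ⊤ := by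
    refine two_group_decomp (fun g hg => odd_mem_centralizer hQ hg) fun g ⟨k, hk⟩ => ?_
    obtain ⟨j, -, hj⟩ := (Nat.dvd_prime_pow Nat.prime_two).1 (orderOf_dvd_of_pow_eq_one hk)
    have hp : IsPGroup 2 (zpowers g) := IsPGroup.of_card (n := j) (by rw [Nat.card_zpowers, hj])
    obtain ⟨h, hh⟩ := Invol.exists_conj_le_sylow hp S
    have := conj_mem' (mem_normalizer_top (Q := centralizer (Q : Set G)) h) (hS (hh g (mem_zpowers g)))
    rwa [show h⁻¹ * (h * g * h⁻¹) * h = g by group] at this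
  refine hQc fun x hx => mem_center_iff.2 fun g => ?_
  exact (mem_centralizer_iff.1 (hC ▸ mem_top g) x hx).symm

theorem four_dvd_card [Q.Normal] [IsCyclic Q] (hQ : IsPGroup 2 Q) (hQc : ¬ Q ≤ center G) :
    4 ∣ Nat.card Q := by
  haveI : Fact (Nat.Prime 2) := ⟨Nat.prime_two⟩
  obtain ⟨j, hj⟩ := hQ.exists_card_eq
  rcases Nat.lt_or_ge j 2 with hj2 | hj2
  · exfalso
    haveI : Subsingleton (MulAut Q) := by
      refine (Nat.card_eq_one_iff_unique.1 ?_).1
      rw [IsCyclic.card_mulAut, hj]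
      interval_cases j <;> decide
    refine hQc fun x hx => mem_center_iff.2 fun g => ?_
    have h2 := congrArg (fun s : MulAut Q => ((s ⟨x, hx⟩ : Q) : G))
      (Subsingleton.elim (MulAut.conjNormal g : MulAut Q) 1)
    simp only [MulAut.conjNormal_apply, MulAut.one_apply] at h2
    exact mul_inv_eq_iff_eq_mul.1 h2
  · rw [hj]; exact pow_dvd_pow 2 hj2

theorem mem_of_sq_mem {H : Subgroup G} {m : G} (hSH : (S : Subgroup G) ≤ H)
    (hm : m ∈ normalizer (S : Set G)) (h2 : m * m ∈ H) : m ∈ H := by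
  obtain ⟨a, b, hab, c, hc⟩ := exists_two_pow_mul_odd m
  have h1 : m ^ b ∈ H :=
    hSH (mem_of_normalizer (pow_mem hm b) ⟨a, by rw [← pow_mul, mul_comm, hab, pow_orderOf_eq_one]⟩)
  rw [hc, pow_succ', pow_mul, pow_two] at h1
  have := mul_mem h1 (inv_mem (pow_mem h2 c))
  simpa using this

variable (hC : ∀ S T : Sylow 2 G, S ≠ T → IsCyclic ↥((S : Subgroup G) ⊓ (T : Subgroup G)))

include hC

/-- An involution modulo `Q` fixed modulo `Q` by `N(S)` is impossible. -/
theorem false_of_fixed [Q.Normal] (hQ : IsPGroup 2 Q)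
    (hQle : ∀ T : Sylow 2 G, Q ≤ (T : Subgroup G))
    (hQmax : ∀ N : Subgroup G, N.Normal → IsPGroup 2 N → N ≤ Q)
    (hO : Cfsg.pPrimeCore 2 (G ⧸ Q) = ⊥) {c : G} (hc : c ∈ (S : Subgroup G)) (hc1 : c ∉ Q)
    (hc2 : c * c ∈ Q) (hfix : normalizer (S : Set G) ≤ centMod Q c) : False := by
  haveI : Fact (Nat.Prime 2) := ⟨Nat.prime_two⟩
  have hSc : (S : Subgroup G) ≤ centMod Q c := (le_normalizer (H := (S : Subgroup G))).trans hfix
  have hclosed : ∀ g : G, g * c * g⁻¹ ∈ (S : Subgroup G) → g * c * g⁻¹ * c⁻¹ ∈ Q := by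
    intro g hgS
    by_contra hne
    set c' := g * c * g⁻¹ with hc'def
    have hc'2 : c' * c' ∈ Q := by
      rw [hc'def, show g * c * g⁻¹ * (g * c * g⁻¹) = g * (c * c) * g⁻¹ by group]
      exact conj_mem (mem_normalizer_top g) hc2
    have hc'1 : c' ∉ Q := fun h => hc1 (by
      have := conj_mem' (mem_normalizer_top g) h
      rwa [hc'def, show g⁻¹ * (g * c * g⁻¹) * g = c by group] at this)
    set P := Q ⊔ zpowers c ⊔ zpowers c' with hPdef
    have hPS : P ≤ (S : Subgroup G) :=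
      sup_le (sup_le (hQle S) (zpowers_le.2 hc)) (zpowers_le.2 hgS)
    have hcP : c ∈ P := mem_sup_left (mem_sup_right (mem_zpowers c))
    have hc'P : c' ∈ P := mem_sup_right (mem_zpowers c')
    have hPU : Uniq S P := by
      by_contra hu
      haveI := isCyclic_of_not_uniq hC hPS hu
      exact hne (eq_mod_of_cyclic (S.2.to_le hPS) hc'P hcP hc'1 hc'2 hc1 hc2)
    set H := centMod Q c'
    have hPH : P ≤ H := by
      refine sup_le (sup_le (fun q hq => ⟨mem_normalizer_top q, ?_⟩) (zpowers_le.2 ?_)) (zpowers_le.2 ?_)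
      · rw [show q * c' * q⁻¹ * c'⁻¹ = q * (c' * q⁻¹ * c'⁻¹) by group]
        exact mul_mem hq (conj_mem (mem_normalizer_top c') (inv_mem hq))
      · exact centMod_symm (mem_normalizer_top c) (hSc hgS)
      · exact ⟨mem_normalizer_top c', by simp⟩
    have hgH : ((g • S : Sylow 2 G) : Subgroup G) ≤ H := fun x hx => by
      have := conj_mem_centMod (mem_normalizer_top (Q := Q) g) (hSc (mem_smul_iff.1 hx))
      rwa [show g * (g⁻¹ * x * g) * g⁻¹ = x by group] at this
    obtain ⟨h, hh⟩ := Invol.exists_conj_le_sylow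
      ((S.2.to_le hPS).comap_subtype : IsPGroup 2 (P.subgroupOf H)) ((g • S).subtype hgH)
    have hhg : ((h : G)⁻¹ * g) • S = S := by
      refine hPU _ fun x hx => mem_smul_iff.2 ?_
      have h1 : (h : G) * x * (h : G)⁻¹ ∈ ((g • S : Sylow 2 G) : Subgroup G) :=
        hh ⟨x, hPH hx⟩ (mem_subgroupOf.2 hx)
      have h2 := mem_smul_iff.1 h1
      rwa [show ((h : G)⁻¹ * g)⁻¹ * x * ((h : G)⁻¹ * g) = g⁻¹ * ((h : G) * x * (h : G)⁻¹) * g by
        group]
    have h1 := (hfix (Sylow.smul_eq_iff_mem_normalizer.1 hhg)).2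
    have h2 := (inv_mem h.2 : (h : G)⁻¹ ∈ H).2
    refine hne ?_
    have := mul_mem (inv_mem h2) h1
    rwa [show ((h : G)⁻¹ * c' * (h : G)⁻¹⁻¹ * c'⁻¹)⁻¹ *
      ((h : G)⁻¹ * g * c * ((h : G)⁻¹ * g)⁻¹ * c⁻¹) = c' * c⁻¹ by rw [hc'def]; group] at this
  set π := QuotientGroup.mk' Q with hπ
  have hone : ∀ y : G, π y = 1 ↔ y ∈ Q := fun y => by
    rw [hπ, QuotientGroup.mk'_apply, QuotientGroup.eq_one_iff]
  have hz : orderOf (π c) = 2 := Invol.invol_iff.2
    ⟨by rw [← map_mul, hone]; exact hc2, fun h => hc1 ((hone c).1 h)⟩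
  have hcent := Invol.zstar_of_weakly_closed (S.mapSurjective (QuotientGroup.mk'_surjective Q)) hz
    fun g hg => by
      obtain ⟨g, rfl⟩ := QuotientGroup.mk'_surjective Q g
      rw [← map_inv, ← map_mul, ← map_mul] at hg ⊢
      obtain ⟨s, hs, hsg⟩ := hg
      have hmem : g * c * g⁻¹ ∈ (S : Subgroup G) := by
        have h1 : s⁻¹ * (g * c * g⁻¹) ∈ Q := (hone _).1 (by
          rw [map_mul, map_inv, inv_mul_eq_one]; exact hsg)
        have := mul_mem hs (hQle S h1)
        rwa [mul_inv_cancel_left] at this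
      exact mul_inv_eq_one.1 (by rw [← map_inv, ← map_mul]; exact (hone _).2 (hclosed g hmem))
  have hall : ∀ g : G, g ∈ centMod Q c := fun g => by
    refine ⟨mem_normalizer_top g, (hone _).1 ?_⟩
    have h1 := hcent (π g)
    rw [hO, mem_bot, mul_inv_eq_one, mul_inv_eq_iff_eq_mul] at h1
    rw [map_mul, map_mul, map_mul, map_inv, map_inv, mul_inv_eq_one, mul_inv_eq_iff_eq_mul]
    exact h1.symm
  have hn : (Q ⊔ zpowers c).Normal :=
    normalizer_eq_top_iff.1 (eq_top_iff.2 fun g _ => mem_normalizer_sup (hall g))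
  exact hc1 (hQmax _ hn (S.2.to_le (sup_le (hQle S) (zpowers_le.2 hc)))
    (mem_sup_right (mem_zpowers c)))

/-- `N(S)` fixes a central involution of `S` modulo `Q` if `Q` is not central. -/
theorem exists_fixed [Q.Normal] [IsCyclic Q] (hQ : IsPGroup 2 Q)
    (hQle : ∀ T : Sylow 2 G, Q ≤ (T : Subgroup G)) (hne : ∀ S : Sylow 2 G, ∃ T, T ≠ S)
    (hQc : ¬ Q ≤ center G) :
    ∃ c, QInvol Q S c ∧ normalizer (S : Set G) ≤ centMod Q c := by
  haveI : Fact (Nat.Prime 2) := ⟨Nat.prime_two⟩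
  obtain ⟨x, hxS, hxC⟩ := SetLike.not_le_iff_exists.1 (not_sylow_le_centralizer (S := S) hQ hQc)
  have hcandQ : Cand Q S Q := by
    refine ⟨hQle S, le_rfl, fun hu => ?_, x, hxS, mem_normalizer_top x, hxC⟩
    obtain ⟨T, hT⟩ := hne S
    exact hT (hu T (hQle T))
  haveI : Nonempty {E : Subgroup G // Cand Q S E} := ⟨⟨Q, hcandQ⟩⟩
  obtain ⟨⟨D, hD⟩, hmax⟩ := Finite.exists_max (fun E : {E : Subgroup G // Cand Q S E} => Nat.card E.1)
  have hM : MaxD Q S D := ⟨hD, fun E hE => hmax ⟨E, hE⟩⟩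
  haveI := isCyclic_of_not_uniq hC hM.le hM.not_uniq
  have hD2 : IsPGroup 2 D := S.2.to_le hM.le
  have hdiff : ∀ {a b : G}, QInvol Q S a → QInvol Q S b → a ∉ D → b ∉ D → a * b⁻¹ ∈ D :=
    fun ha hb haD hbD => cinvol_unique hC hQ hQle hM (ha.cinvol hM.core hM.le haD)
      (hb.cinvol hM.core hM.le hbD)
  by_cases hw : ∃ w, QInvol Q S w ∧ w ∈ D
  swap
  · push Not at hw
    have hxQ : ¬ (S : Subgroup G) ≤ Q := fun hle => hxC (mem_centralizer_iff.2 fun q hq =>
      cyclic_comm hq (hle hxS))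
    obtain ⟨a, haS, haQ, ha2, hac⟩ := exists_central_invol_mod S.2 (hQle S)
      (fun y _ => mem_normalizer_top y) hxQ
    have ha : QInvol Q S a := ⟨haS, haQ, ha2, hac⟩
    refine ⟨a, ha, fun m hm => ⟨mem_normalizer_top m, ?_⟩⟩
    by_contra hn
    exact hw _ ((ha.conj hm).mul_inv ha hn) (hdiff (ha.conj hm) ha (hw _ (ha.conj hm)) (hw _ ha))
  obtain ⟨w, hw, hwD⟩ := hw
  by_cases hall : ∀ a, QInvol Q S a → a * w⁻¹ ∈ Q
  · exact ⟨w, hw, fun m hm => ⟨mem_normalizer_top m, hall _ (hw.conj hm)⟩⟩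
  push Not at hall
  obtain ⟨u, hu, huw⟩ := hall
  have huD : u ∉ D := fun h =>
    huw (eq_mod_of_cyclic hD2 h hwD hu.notMem hu.sq hw.notMem hw.sq)
  refine ⟨w, hw, ?_⟩
  set π := QuotientGroup.mk' Q with hπ
  have hone : ∀ y : G, π y = 1 ↔ y ∈ Q := fun y => by
    rw [hπ, QuotientGroup.mk'_apply, QuotientGroup.eq_one_iff]
  have heq : ∀ y z : G, π y = π z ↔ y * z⁻¹ ∈ Q := fun y z => by
    rw [← hone, map_mul, map_inv, mul_inv_eq_one]
  have huwcomm : π w * π u = π u * π w := by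
    rw [← map_mul, ← map_mul, heq, mul_inv_rev, ← mul_assoc]
    exact (hu.cent hw.mem).2
  have hthree : ∀ a, QInvol Q S a → π a = π w ∨ π a = π u ∨ π a = π (u * w) := by
    intro a ha
    by_cases haD : a ∈ D
    · exact Or.inl ((heq a w).2 (eq_mod_of_cyclic hD2 haD hwD ha.notMem ha.sq hw.notMem hw.sq))
    · by_cases hau : a * u⁻¹ ∈ Q
      · exact Or.inr (Or.inl ((heq a u).2 hau))
      · have h1 := hdiff ha hu haD huD
        have h2 := ha.mul_inv hu hau
        have h3 := (heq _ w).2 (eq_mod_of_cyclic hD2 h1 hwD h2.notMem h2.sq hw.notMem hw.sq)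
        rw [map_mul, map_inv, mul_inv_eq_iff_eq_mul, huwcomm, ← map_mul] at h3
        exact Or.inr (Or.inr h3)
  have huwI : QInvol Q S (u * w) := hu.mul hw fun h => huD (by
    have := mul_mem (hM.core h) (inv_mem hwD)
    rwa [mul_inv_cancel_right] at this)
  have hnU : ∀ a, a ∈ D → ¬ Uniq S (Q ⊔ zpowers a) := fun a ha hU =>
    hM.not_uniq (hU.mono (sup_le hM.core (zpowers_le.2 ha)))
  -- one of the classes has a unique Sylow overgroup
  obtain ⟨i, hi, hiU⟩ : ∃ i, (i = u ∨ i = u * w) ∧ Uniq S (Q ⊔ zpowers i) := by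
    have hle : ∀ i, QInvol Q S i → Q ⊔ zpowers i ≤ (S : Subgroup G) := fun i hi =>
      sup_le (hQle S) (zpowers_le.2 hi.mem)
    by_cases huC : u ∈ centralizer (Q : Set G)
    swap
    · exact ⟨u, Or.inl rfl,
        uniq_of_not_commute hC (hle u hu) hQle (mem_sup_right (mem_zpowers u)) huC⟩
    have hwC : w ∈ centralizer (Q : Set G) := by
      by_contra hn
      exact hnU w hwD (uniq_of_not_commute hC (hle w hw) hQle (mem_sup_right (mem_zpowers w)) hn)
    obtain ⟨i, hi, q, hq, hiq⟩ := exists_sq_one_of_four (four_dvd_card hQ hQc) huC hwC hu.sq hw.sq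
      (hu.cent hw.mem).2
    have hiI : QInvol Q S i := by rcases hi with rfl | rfl | rfl <;> assumption
    have hiU : Uniq S (Q ⊔ zpowers i) := by
      by_contra hn
      haveI := isCyclic_of_not_uniq hC (hle i hiI) hn
      obtain ⟨t, ht, ht2⟩ : ∃ t ∈ Q, orderOf t = 2 :=
        Invol.exists_invol_mem (even_iff_two_dvd.2 ((dvd_trans (by norm_num) (four_dvd_card hQ hQc))))
      have hiqQ : i * q ∉ Q := fun h => hiI.notMem (by
        have := mul_mem h (inv_mem hq)
        rwa [mul_inv_cancel_right] at this)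
      have := eq_mod_of_cyclic (Q := (⊥ : Subgroup G)) (S.2.to_le (hle i hiI))
        (mul_mem (mem_sup_right (mem_zpowers i)) (mem_sup_left hq) : i * q ∈ Q ⊔ zpowers i)
        (mem_sup_left ht) (fun h => hiqQ (by rw [mem_bot.1 h]; exact one_mem Q)) (mem_bot.2 hiq)
        (fun h => Invol.invol_ne_one ht2 (mem_bot.1 h)) (mem_bot.2 (Invol.invol_mul_self ht2))
      rw [mem_bot, mul_inv_eq_one] at this
      exact hiqQ (this ▸ ht)
    rcases hi with h | h | h
    · exact ⟨i, Or.inl h, hiU⟩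
    · exact absurd (h ▸ hiU) (hnU w hwD)
    · exact ⟨i, Or.inr h, hiU⟩
  obtain ⟨y, hy⟩ : ∃ y, ∀ a, QInvol Q S a → ¬ Uniq S (Q ⊔ zpowers a) → π a = π w ∨ π a = y := by
    have hne' : ∀ a, ¬ Uniq S (Q ⊔ zpowers a) → π a ≠ π i := fun a ha h => ha (hiU.of_conj (m := 1)
      (one_mem _) (sup_conj (mem_normalizer_top (1 : G))
        (by simpa using (heq i a).1 h.symm)))
    rcases hi with h | h
    · exact ⟨π (u * w), fun a ha haU => (hthree a ha).imp_right (·.resolve_left (h ▸ hne' a haU))⟩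
    · exact ⟨π u, fun a ha haU => (hthree a ha).imp_right (·.resolve_right (h ▸ hne' a haU))⟩
  intro m hm
  have hstep : ∀ a, QInvol Q S a → ¬ Uniq S (Q ⊔ zpowers a) →
      ¬ Uniq S (Q ⊔ zpowers (m * a * m⁻¹)) := fun a _ ha h =>
    ha (h.of_conj (inv_mem hm) (sup_conj (mem_normalizer_top m⁻¹)
      (by rw [show m⁻¹ * (m * a * m⁻¹) * m⁻¹⁻¹ * a⁻¹ = 1 by group]; exact one_mem Q)))
  refine mem_of_sq_mem (H := centMod Q w) hw.cent hm ⟨mem_normalizer_top _, ?_⟩
  have hw' := hw.conj hm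
  have hw'U := hstep w hw (hnU w hwD)
  have hw'' := hw'.conj hm
  rw [← heq, show m * m * w * (m * m)⁻¹ = m * (m * w * m⁻¹) * m⁻¹ by group]
  rcases hy _ hw' hw'U with h | h
  · rw [map_mul, map_mul, h, ← map_mul, ← map_mul]; exact h
  · rcases hy _ hw'' (hstep _ hw' hw'U) with h' | h'
    · exact h'
    · have h2 : π (m * (m * w * m⁻¹) * m⁻¹) = π (m * w * m⁻¹) := h'.trans h.symm
      have h3 : π (m * w * m⁻¹) = π w := (heq _ _).2 (by
        have := conj_mem' (mem_normalizer_top m) ((heq _ _).1 h2)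
        rwa [show m⁻¹ * (m * (m * w * m⁻¹) * m⁻¹ * (m * w * m⁻¹)⁻¹) * m = m * w * m⁻¹ * w⁻¹ by
          group] at this)
      exact h2.trans h3

/-- The core is central. -/
theorem le_center [Q.Normal] [IsCyclic Q] (hQ : IsPGroup 2 Q)
    (hQle : ∀ T : Sylow 2 G, Q ≤ (T : Subgroup G))
    (hQmax : ∀ N : Subgroup G, N.Normal → IsPGroup 2 N → N ≤ Q)
    (hO : Cfsg.pPrimeCore 2 (G ⧸ Q) = ⊥) (hne : ∀ S : Sylow 2 G, ∃ T, T ≠ S) : Q ≤ center G := by
  by_contra hQc
  obtain ⟨S⟩ : Nonempty (Sylow 2 G) := inferInstance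
  obtain ⟨c, hc, hfix⟩ := exists_fixed hC hQ hQle hne hQc (S := S)
  exact false_of_fixed hC hQ hQle hQmax hO hc.mem hc.notMem hc.sq hfix

omit hC

universe u

variable {K : Type u} [Group K] [Finite K]

/-- With the odd order theorem: solvable normal subgroups are cyclic central 2-groups. -/
theorem solvable_normal (FT : ∀ (H : Type u) [Group H] [Finite H], Odd (Nat.card H) → Group.IsSolvable H)
    (hns : ¬ Group.IsSolvable K) (hO : Cfsg.pPrimeCore 2 K = ⊥)
    (hC : ∀ S T : Sylow 2 K, S ≠ T → IsCyclic ↥((S : Subgroup K) ⊓ (T : Subgroup K)))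
    (N : Subgroup K) [N.Normal] (hN : Group.IsSolvable N) :
    IsCyclic N ∧ IsPGroup 2 N ∧ N ≤ center K := by
  haveI : Fact (Nat.Prime 2) := ⟨Nat.prime_two⟩
  have hne : ∀ S : Sylow 2 K, ∃ T, T ≠ S := by
    intro S
    by_contra h
    push Not at h
    haveI : Subsingleton (Sylow 2 K) := ⟨fun a b => (h a).trans (h b).symm⟩
    haveI := S.normal_of_subsingleton
    haveI := S.2.isNilpotent
    haveI : Group.IsSolvable (S : Subgroup K) := inferInstance
    haveI : Group.IsSolvable (K ⧸ (S : Subgroup K)) := FT _ (by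
      rw [← index_eq_card, Nat.odd_iff]
      have := S.not_dvd_index
      omega)
    exact hns (Group.isSolvable_of_ker_le_range (S : Subgroup K).subtype
      (QuotientGroup.mk' (S : Subgroup K)) (by rw [QuotientGroup.ker_mk', range_subtype]))
  set Q := Cfsg.pCore 2 K with hQdef
  haveI : Q.Normal := Coprime.pCore_normal' 2
  have hQ : IsPGroup 2 Q := Coprime.pCore_isPGroup 2
  have hQle : ∀ T : Sylow 2 K, Q ≤ (T : Subgroup K) := fun T => Coprime.pCore_le_sylow T
  have hQmax : ∀ M : Subgroup K, M.Normal → IsPGroup 2 M → M ≤ Q := fun M hM h =>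
    haveI := hM; Coprime.le_pCore h
  haveI : IsCyclic Q := by
    obtain ⟨S⟩ : Nonempty (Sylow 2 K) := inferInstance
    obtain ⟨T, hT⟩ := hne S
    haveI := hC T S hT
    exact isCyclic_of_injective (Subgroup.inclusion (le_inf (hQle T) (hQle S)))
      (Subgroup.inclusion_injective _)
  have hrad : ∀ M : Subgroup K, M.Normal → Group.IsSolvable M → M ≤ Q := by
    intro M hMn hMs
    haveI := hMn
    haveI := hMs
    refine hQmax M hMn (Invol.isPGroup_two_of_odd_centralizes ?_ fun x hx => ?_)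
    · refine (map_eq_bot_iff_of_injective _ M.subtype_injective).1 ?_
      rw [Coprime.pPrimeCore_map_subtype_eq Nat.prime_two, hO, bot_inf_eq]
    · rw [mem_centralizer_iff]
      intro r hr
      have hrQ : (r : K) ∈ Q := by
        have h1 := mem_map_of_mem M.subtype hr
        rw [Coprime.pCore_map_subtype_eq] at h1
        exact h1.1
      exact Subtype.ext (mem_centralizer_iff.1
        (odd_mem_centralizer hQ (by rwa [Subgroup.orderOf_coe])) _ hrQ)
  have hO2 : Cfsg.pPrimeCore 2 (K ⧸ Q) = ⊥ := by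
    set R := Cfsg.pPrimeCore 2 (K ⧸ Q) with hR
    haveI : R.Normal := by
      haveI := Coprime.pPrimeCore_characteristic (G := K ⧸ Q) 2
      infer_instance
    set M := R.comap (QuotientGroup.mk' Q)
    haveI : Group.IsSolvable R := FT _ (Nat.coprime_two_right.1 (Coprime.pPrimeCore_coprime Nat.prime_two))
    haveI := hQ.isNilpotent
    haveI : Group.IsSolvable Q := inferInstance
    have hle : Q ≤ M := fun x hx => by
      show QuotientGroup.mk' Q x ∈ R
      rw [(QuotientGroup.eq_one_iff x).2 hx |> (QuotientGroup.mk'_apply Q x).trans]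
      exact one_mem R
    have hM : Group.IsSolvable M := Group.isSolvable_of_ker_le_range (Subgroup.inclusion hle)
      (((QuotientGroup.mk' Q).comp M.subtype).codRestrict R fun x => x.2) fun x hx => by
        rw [MonoidHom.mem_ker, Subtype.ext_iff] at hx
        exact ⟨⟨x, (QuotientGroup.eq_one_iff _).1 hx⟩, rfl⟩
    have h1 := map_mono (f := QuotientGroup.mk' Q) (hrad M inferInstance hM)
    rw [map_comap_eq_self_of_surjective (QuotientGroup.mk'_surjective Q)] at h1
    exact le_bot_iff.1 (h1.trans (le_of_eq ((Subgroup.map_eq_bot_iff _).2 (by rw [QuotientGroup.ker_mk']))))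
  have hNQ : N ≤ Q := hrad N inferInstance hN
  exact ⟨isCyclic_of_injective (Subgroup.inclusion hNQ) (Subgroup.inclusion_injective _),
    hQ.to_le hNQ, hNQ.trans (le_center hC hQ hQle hQmax hO2 hne)⟩

/-- The same modulo the odd core. -/
theorem solvable_normal_mod_oddCore
    (FT : ∀ (H : Type u) [Group H] [Finite H], Odd (Nat.card H) → Group.IsSolvable H)
    (hns : ¬ Group.IsSolvable K)
    (hC : ∀ S T : Sylow 2 K, S ≠ T → IsCyclic ↥((S : Subgroup K) ⊓ (T : Subgroup K)))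
    (O : Subgroup K) [O.Normal] (hOdef : O = Cfsg.oddCore K) (N : Subgroup K) [N.Normal]
    (hN : Group.IsSolvable N) :
    IsCyclic ↥(N.map (QuotientGroup.mk' O)) ∧ IsPGroup 2 ↥(N.map (QuotientGroup.mk' O)) ∧
      N.map (QuotientGroup.mk' O) ≤ center (K ⧸ O) := by
  subst hOdef
  haveI : Group.IsSolvable (Cfsg.oddCore K) :=
    FT _ (Nat.coprime_two_right.1 (Coprime.pPrimeCore_coprime Nat.prime_two))
  haveI := Subgroup.Normal.map (inferInstance : N.Normal) _ (QuotientGroup.mk'_surjective (Cfsg.oddCore K))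
  haveI := hN
  refine solvable_normal FT (fun h => ?_) (Coprime.pPrimeCore_quotient_eq_bot Nat.prime_two)
    (Cfsg.Agent.S3305.result hC (Cfsg.oddCore K)) _
    (Group.isSolvable_of_surjective (f := (QuotientGroup.mk' (Cfsg.oddCore K)).subgroupMap N)
      (MonoidHom.subgroupMap_surjective _ N))
  haveI := h
  exact hns (Group.isSolvable_of_ker_le_range (Cfsg.oddCore K).subtype
    (QuotientGroup.mk' (Cfsg.oddCore K)) (by rw [QuotientGroup.ker_mk', range_subtype]))

end CfsgLib.FTHarvest.CyclicInter
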