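import Mathlib
import Cfsg.Agent.Lib.Invol.Basic
import Cfsg.Agent.Lib.Invol.DihedralSubgroup

/-!
# Congruences modulo a subgroup, and unique Sylow overgroups

Basic lemmas for groups in which distinct Sylow 2-subgroups have cyclic intersections.
-/

set_option autoImplicit false
set_option linter.unusedSectionVars false
set_option linter.style.haveILetI false

open Subgroup

namespace CfsgLib.FTHarvest.CyclicInter

variable {G : Type*} [Group G]

theorem conj_mem {D : Subgroup G} {m d : G} (hm : m ∈ normalizer (D : Set G)) (hd : d ∈ D) :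
    m * d * m⁻¹ ∈ D :=
  (mem_normalizer_iff.1 hm d).1 hd

theorem conj_mem' {D : Subgroup G} {m d : G} (hm : m ∈ normalizer (D : Set G)) (hd : d ∈ D) :
    m⁻¹ * d * m ∈ D := by
  simpa using conj_mem (inv_mem hm) hd

/-- The elements normalising `D` and fixing the coset of `z`. -/
def centMod (D : Subgroup G) (z : G) : Subgroup G where
  carrier := {m | m ∈ normalizer (D : Set G) ∧ m * z * m⁻¹ * z⁻¹ ∈ D}
  one_mem' := ⟨one_mem _, by simp⟩
  mul_mem' := by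
    rintro m n ⟨hm, hm'⟩ ⟨hn, hn'⟩
    refine ⟨mul_mem hm hn, ?_⟩
    rw [show m * n * z * (m * n)⁻¹ * z⁻¹ = m * (n * z * n⁻¹ * z⁻¹) * m⁻¹ * (m * z * m⁻¹ * z⁻¹) by
      group]
    exact mul_mem (conj_mem hm hn') hm'
  inv_mem' := by
    rintro m ⟨hm, hm'⟩
    refine ⟨inv_mem hm, ?_⟩
    rw [show m⁻¹ * z * m⁻¹⁻¹ * z⁻¹ = (m⁻¹ * (m * z * m⁻¹ * z⁻¹) * m)⁻¹ by group]
    exact inv_mem (conj_mem' hm hm')

theorem mem_centMod {D : Subgroup G} {z m : G} :
    m ∈ centMod D z ↔ m ∈ normalizer (D : Set G) ∧ m * z * m⁻¹ * z⁻¹ ∈ D :=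
  Iff.rfl

theorem centMod_symm {D : Subgroup G} {a e : G} (he : e ∈ normalizer (D : Set G))
    (ha : a ∈ centMod D e) : e ∈ centMod D a := by
  refine ⟨he, ?_⟩
  rw [show e * a * e⁻¹ * a⁻¹ = (a * e * a⁻¹ * e⁻¹)⁻¹ by group]
  exact inv_mem ha.2

theorem centMod_congr_le {D : Subgroup G} {a b : G} (h : a * b⁻¹ ∈ D) :
    centMod D b ≤ centMod D a := by
  rintro m ⟨hm, hm'⟩
  refine ⟨hm, ?_⟩
  rw [show m * a * m⁻¹ * a⁻¹ = m * (a * b⁻¹) * m⁻¹ * (m * b * m⁻¹ * b⁻¹) * (a * b⁻¹)⁻¹ by group]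
  exact mul_mem (mul_mem (conj_mem hm h) hm') (inv_mem h)

theorem centMod_congr {D : Subgroup G} {a b : G} (h : a * b⁻¹ ∈ D) :
    centMod D a = centMod D b :=
  le_antisymm (centMod_congr_le (by simpa using inv_mem h)) (centMod_congr_le h)

theorem conj_mem_centMod {D : Subgroup G} {a k m : G} (hk : k ∈ normalizer (D : Set G))
    (hm : m ∈ centMod D a) : k * m * k⁻¹ ∈ centMod D (k * a * k⁻¹) := by
  refine ⟨mul_mem (mul_mem hk hm.1) (inv_mem hk), ?_⟩
  rw [show k * m * k⁻¹ * (k * a * k⁻¹) * (k * m * k⁻¹)⁻¹ * (k * a * k⁻¹)⁻¹ =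
    k * (m * a * m⁻¹ * a⁻¹) * k⁻¹ by group]
  exact conj_mem hk hm.2

theorem centMod_mul {D : Subgroup G} {a b m : G} (ha : a ∈ normalizer (D : Set G))
    (h1 : m ∈ centMod D a) (h2 : m ∈ centMod D b) : m ∈ centMod D (a * b) := by
  refine ⟨h1.1, ?_⟩
  rw [show m * (a * b) * m⁻¹ * (a * b)⁻¹ =
    (m * a * m⁻¹ * a⁻¹) * (a * (m * b * m⁻¹ * b⁻¹) * a⁻¹) by group]
  exact mul_mem h1.2 (conj_mem ha h2.2)

theorem centMod_inv {D : Subgroup G} {b m : G} (hb : b ∈ normalizer (D : Set G))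
    (h : m ∈ centMod D b) : m ∈ centMod D b⁻¹ := by
  refine ⟨h.1, ?_⟩
  rw [show m * b⁻¹ * m⁻¹ * b⁻¹⁻¹ = (b⁻¹ * (m * b * m⁻¹ * b⁻¹) * b)⁻¹ by group]
  exact inv_mem (conj_mem' hb h.2)

theorem mem_sup_zpowers {E : Subgroup G} {e x : G} (he : e ∈ normalizer (E : Set G))
    (he2 : e * e ∈ E) : x ∈ E ⊔ zpowers e ↔ x ∈ E ∨ x * e⁻¹ ∈ E := by
  constructor
  · let H : Subgroup G :=
      { carrier := {y | y ∈ E ∨ y * e⁻¹ ∈ E}
        one_mem' := Or.inl (one_mem E)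
        mul_mem' := by
          rintro a b (ha | ha) (hb | hb)
          · exact Or.inl (mul_mem ha hb)
          · exact Or.inr (by rw [mul_assoc]; exact mul_mem ha hb)
          · refine Or.inr ?_
            rw [show a * b * e⁻¹ = a * e⁻¹ * (e * b * e⁻¹) by group]
            exact mul_mem ha (conj_mem he hb)
          · refine Or.inl ?_
            rw [show a * b = a * e⁻¹ * (e * (b * e⁻¹) * e⁻¹) * (e * e) by group]
            exact mul_mem (mul_mem ha (conj_mem he hb)) he2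
        inv_mem' := by
          rintro a (ha | ha)
          · exact Or.inl (inv_mem ha)
          · refine Or.inr ?_
            rw [show a⁻¹ * e⁻¹ = (e * (a * e⁻¹) * e⁻¹ * (e * e))⁻¹ by group]
            exact inv_mem (mul_mem (conj_mem he ha) he2) }
    have h1 : E ⊔ zpowers e ≤ H :=
      sup_le (fun y hy => Or.inl hy) (zpowers_le.2 (Or.inr (by rw [mul_inv_cancel]; exact one_mem E)))
    exact fun hx => h1 hx
  · rintro (h | h)
    · exact mem_sup_left h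
    · have := mul_mem (mem_sup_left (T := zpowers e) h) (mem_sup_right (S := E) (mem_zpowers e))
      simpa using this

theorem mem_normalizer_of_conj_le [Finite G] {P : Subgroup G} {g : G}
    (h : ∀ x ∈ P, g * x * g⁻¹ ∈ P) : g ∈ normalizer (P : Set G) := by
  have h1 : P.map (MulAut.conj g).toMonoidHom = P := by
    refine eq_of_le_of_card_ge (map_le_iff_le_comap.2 fun x hx => h x hx) ?_
    exact (card_map_of_injective (K := P) (f := (MulAut.conj g).toMonoidHom)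
      (MulAut.conj g).injective).ge
  rw [mem_normalizer_iff]
  refine fun x => ⟨h x, fun hx => ?_⟩
  rw [← h1] at hx
  obtain ⟨y, hy, hyx⟩ := hx
  have : y = x := by
    simpa using hyx
  exact this ▸ hy

theorem sup_conj {E : Subgroup G} {a b k : G} (hk : k ∈ normalizer (E : Set G))
    (h : k * a * k⁻¹ * b⁻¹ ∈ E) : ∀ x ∈ E ⊔ zpowers a, k * x * k⁻¹ ∈ E ⊔ zpowers b := by
  have h1 : E ⊔ zpowers a ≤ (E ⊔ zpowers b).comap (MulAut.conj k).toMonoidHom := by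
    refine sup_le (fun x hx => mem_sup_left (conj_mem hk hx)) (zpowers_le.2 ?_)
    show k * a * k⁻¹ ∈ E ⊔ zpowers b
    have := mul_mem (mem_sup_left (T := zpowers b) h) (mem_sup_right (S := E) (mem_zpowers b))
    simpa using this
  exact fun x hx => h1 hx

theorem mem_normalizer_sup [Finite G] {E : Subgroup G} {e m : G} (hm : m ∈ centMod E e) :
    m ∈ normalizer ((E ⊔ zpowers e : Subgroup G) : Set G) :=
  mem_normalizer_of_conj_le (sup_conj hm.1 hm.2)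

theorem lt_sup_zpowers {E : Subgroup G} {e : G} (he : e ∉ E) : E < E ⊔ zpowers e :=
  lt_of_le_of_ne le_sup_left fun h => he (h ▸ mem_sup_right (mem_zpowers e))

theorem cyclic_comm {H : Subgroup G} [IsCyclic H] {a b : G} (ha : a ∈ H) (hb : b ∈ H) :
    a * b = b * a := by
  obtain ⟨g, hg⟩ := IsCyclic.exists_generator (α := H)
  obtain ⟨i, hi⟩ := mem_zpowers_iff.1 (hg ⟨a, ha⟩)
  obtain ⟨j, hj⟩ := mem_zpowers_iff.1 (hg ⟨b, hb⟩)
  exact congrArg Subtype.val (show (⟨a, ha⟩ : H) * ⟨b, hb⟩ = ⟨b, hb⟩ * ⟨a, ha⟩ by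
    rw [← hi, ← hj]; exact ((Commute.refl g).zpow_zpow i j).eq)

theorem exists_half (D : Subgroup G) {x : G} (hx : ∃ k : ℕ, x ^ 2 ^ k = 1) (hxD : x ∉ D) :
    ∃ n : ℕ, x ^ 2 ^ n ∉ D ∧ x ^ 2 ^ n * x ^ 2 ^ n ∈ D ∧
      ∀ i : ℤ, x ^ i ∈ D → (2 : ℤ) ^ (n + 1) ∣ i := by
  classical
  have hex : ∃ N : ℕ, x ^ 2 ^ N ∈ D := by
    obtain ⟨k, hk⟩ := hx
    exact ⟨k, hk ▸ one_mem D⟩
  obtain ⟨n, hn⟩ : ∃ n, Nat.find hex = n + 1 := by
    refine Nat.exists_eq_succ_of_ne_zero fun h0 => hxD ?_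
    simpa [h0] using Nat.find_spec hex
  have hspec : x ^ 2 ^ (n + 1) ∈ D := hn ▸ Nat.find_spec hex
  refine ⟨n, Nat.find_min hex (by omega), ?_, fun i hi => ?_⟩
  · rwa [← pow_add, ← mul_two, ← pow_succ]
  · have hd : x ^ Int.gcd i ((2 : ℤ) ^ (n + 1)) ∈ D := by
      rw [← zpow_natCast, Int.gcd_eq_gcd_ab, zpow_add, zpow_mul, zpow_mul]
      refine mul_mem (zpow_mem hi _) (zpow_mem ?_ _)
      rw [show ((2 : ℤ) ^ (n + 1)) = ((2 ^ (n + 1) : ℕ) : ℤ) by push_cast; rfl, zpow_natCast]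
      exact hspec
    have hdvd : Int.gcd i ((2 : ℤ) ^ (n + 1)) ∣ 2 ^ (n + 1) := by
      have := Int.gcd_dvd_right i ((2 : ℤ) ^ (n + 1))
      exact Int.natCast_dvd_natCast.1 (by push_cast; exact this)
    obtain ⟨t, ht, hte⟩ := (Nat.dvd_prime_pow Nat.prime_two).1 hdvd
    rw [hte] at hd
    have htn : n + 1 ≤ t := hn ▸ Nat.find_le hd
    have : t = n + 1 := le_antisymm ht htn
    subst this
    have := Int.gcd_dvd_left i ((2 : ℤ) ^ (n + 1))
    rw [hte] at this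
    exact_mod_cast this

theorem eq_mod_of_cyclic {D Q : Subgroup G} (hD : IsPGroup 2 D) [IsCyclic D] {u w : G}
    (hu : u ∈ D) (hw : w ∈ D) (hu1 : u ∉ Q) (hu2 : u * u ∈ Q) (hw1 : w ∉ Q) (hw2 : w * w ∈ Q) :
    u * w⁻¹ ∈ Q := by
  obtain ⟨g, hg⟩ := IsCyclic.exists_generator (α := D)
  obtain ⟨i, hi⟩ := mem_zpowers_iff.1 (hg ⟨u, hu⟩)
  obtain ⟨j, hj⟩ := mem_zpowers_iff.1 (hg ⟨w, hw⟩)
  have hi' : (g : G) ^ i = u := by rw [← coe_zpow, hi]
  have hj' : (g : G) ^ j = w := by rw [← coe_zpow, hj]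
  have hgQ : (g : G) ∉ Q := fun h => hu1 (hi' ▸ zpow_mem h i)
  obtain ⟨k, hk⟩ := hD g
  obtain ⟨n, -, hn2, hn3⟩ := exists_half Q (x := (g : G))
    ⟨k, by rw [← Subgroup.coe_pow, hk]; rfl⟩ hgQ
  have key : ∀ {a : G} {l : ℤ}, (g : G) ^ l = a → a ∉ Q → a * a ∈ Q →
      ∃ c : ℤ, l = 2 ^ n * (2 * c + 1) := by
    intro a l hl ha ha2
    have h1 := hn3 (l + l) (by rw [zpow_add, hl]; exact ha2)
    rw [← two_mul, pow_succ'] at h1
    obtain ⟨c, hc⟩ := (mul_dvd_mul_iff_left (two_ne_zero' ℤ)).1 h1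
    rcases Int.even_or_odd c with ⟨d, hd⟩ | ⟨d, hd⟩
    · refine absurd ?_ ha
      rw [← hl, hc, hd, show (2 : ℤ) ^ n * (d + d) = ((2 ^ n + 2 ^ n : ℕ) : ℤ) * d by push_cast; ring,
        zpow_mul, zpow_natCast, pow_add]
      exact zpow_mem hn2 d
    · exact ⟨d, by rw [hc, hd]⟩
  obtain ⟨a, ha⟩ := key hi' hu1 hu2
  obtain ⟨b, hb⟩ := key hj' hw1 hw2
  rw [← hi', ← hj', ← zpow_sub, ha, hb,
    show (2 : ℤ) ^ n * (2 * a + 1) - 2 ^ n * (2 * b + 1) = ((2 ^ n + 2 ^ n : ℕ) : ℤ) * (a - b) by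
      push_cast; ring,
    zpow_mul, zpow_natCast, pow_add]
  exact zpow_mem hn2 _

theorem dihedral_mod [Finite G] (E : Subgroup G) {a b : G} (ha : a ∈ normalizer (E : Set G))
    (hb : b ∈ normalizer (E : Set G)) (ha1 : a ∉ E) (ha2 : a * a ∈ E) (hb1 : b ∉ E)
    (hb2 : b * b ∈ E) :
    (∃ k ∈ normalizer (E : Set G), k * a * k⁻¹ * b⁻¹ ∈ E) ∨
      ∃ e ∈ normalizer (E : Set G), e ∉ E ∧ e * e ∈ E ∧ a ∈ centMod E e ∧ b ∈ centMod E e := by
  haveI : (E.subgroupOf (normalizer (E : Set G))).Normal := normal_in_normalizer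
  set q := QuotientGroup.mk' (E.subgroupOf (normalizer (E : Set G))) with hq
  have hone : ∀ y : normalizer (E : Set G), q y = 1 ↔ (y : G) ∈ E := fun y => by
    rw [hq, QuotientGroup.mk'_apply, QuotientGroup.eq_one_iff, mem_subgroupOf]
  set x := q ⟨a, ha⟩ with hxdef
  set y := q ⟨b, hb⟩ with hydef
  have hx : orderOf x = 2 := Invol.invol_iff.2
    ⟨by rw [hxdef, ← map_mul, hone]; exact ha2, fun h => ha1 ((hone ⟨a, ha⟩).1 h)⟩
  have hy : orderOf y = 2 := Invol.invol_iff.2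
    ⟨by rw [hydef, ← map_mul, hone]; exact hb2, fun h => hb1 ((hone ⟨b, hb⟩).1 h)⟩
  by_cases hodd : Odd (orderOf (x * y))
  · obtain ⟨d, -, hd⟩ := Invol.exists_conj_eq_of_odd hx hy hodd
    obtain ⟨k, rfl⟩ := QuotientGroup.mk'_surjective _ d
    refine Or.inl ⟨k, k.2, (hone (k * ⟨a, ha⟩ * k⁻¹ * ⟨b, hb⟩⁻¹)).1 ?_⟩
    rw [map_mul, map_mul, map_mul, map_inv, map_inv]
    exact mul_inv_eq_one.2 hd
  · rw [Nat.not_odd_iff_even] at hodd
    set e := (x * y) ^ (orderOf (x * y) / 2) with he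
    have he2 : orderOf e = 2 := Invol.orderOf_pow_half hodd
    have hcx : Commute e x := Invol.commute_pow_half (Invol.invol_conj_mul hx hy) hodd
    have hcy : Commute e y := by
      have h1 : Commute e (x * y) := (Commute.refl _).pow_left _
      have h2 := hcx.mul_right h1
      rwa [← mul_assoc, Invol.invol_mul_self hx, one_mul] at h2
    obtain ⟨k, hk⟩ := QuotientGroup.mk'_surjective _ e
    refine Or.inr ⟨k, k.2, fun h => Invol.invol_ne_one he2 (hk ▸ (hone k).2 h), ?_, ⟨ha, ?_⟩, ⟨hb, ?_⟩⟩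
    · refine (hone (k * k)).1 ?_
      rw [map_mul, hk]
      exact Invol.invol_mul_self he2
    · refine (hone (⟨a, ha⟩ * k * ⟨a, ha⟩⁻¹ * k⁻¹)).1 ?_
      rw [map_mul, map_mul, map_mul, map_inv, map_inv, hk, ← hxdef, ← hcx.eq, mul_inv_cancel_right,
        mul_inv_cancel]
    · refine (hone (⟨b, hb⟩ * k * ⟨b, hb⟩⁻¹ * k⁻¹)).1 ?_
      rw [map_mul, map_mul, map_mul, map_inv, map_inv, hk, ← hydef, ← hcy.eq, mul_inv_cancel_right,
        mul_inv_cancel]

theorem exists_central_invol_mod [Finite G] {D T : Subgroup G} (hT : IsPGroup 2 T) (hDT : D ≤ T)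
    (hTN : T ≤ normalizer (D : Set G)) (hne : ¬ T ≤ D) :
    ∃ z ∈ T, z ∉ D ∧ z * z ∈ D ∧ T ≤ centMod D z := by
  haveI : Fact (Nat.Prime 2) := ⟨Nat.prime_two⟩
  haveI : (D.subgroupOf T).Normal := normal_subgroupOf_iff_le_normalizer hDT |>.2 hTN
  have hp : IsPGroup 2 (T ⧸ D.subgroupOf T) := hT.to_quotient _
  set q := QuotientGroup.mk' (D.subgroupOf T) with hq
  have hone : ∀ y : T, q y = 1 ↔ (y : G) ∈ D := fun y => by
    rw [hq, QuotientGroup.mk'_apply, QuotientGroup.eq_one_iff, mem_subgroupOf]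
  obtain ⟨a, haT, haD⟩ := SetLike.not_le_iff_exists.1 hne
  haveI : Nontrivial (T ⧸ D.subgroupOf T) :=
    ⟨⟨q ⟨a, haT⟩, 1, fun h => haD ((hone _).1 h)⟩⟩
  haveI := hp.center_nontrivial
  obtain ⟨k, hk⟩ := (hp.to_subgroup (center _)).exists_card_eq
  have h2 : 2 ∣ Nat.card (center (T ⧸ D.subgroupOf T)) := by
    rcases k with _ | k
    · exact absurd (pow_zero 2 ▸ hk) (Finite.one_lt_card).ne'
    · exact hk ▸ dvd_pow_self 2 (Nat.succ_ne_zero k)
  obtain ⟨c, hc⟩ := exists_prime_orderOf_dvd_card' 2 h2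
  rw [← Subgroup.orderOf_coe] at hc
  obtain ⟨z, hz⟩ := QuotientGroup.mk'_surjective _ (c : T ⧸ D.subgroupOf T)
  rw [← hq] at hz
  refine ⟨z, z.2, fun h => Invol.invol_ne_one hc (hz ▸ (hone z).2 h),
    (hone (z * z)).1 (by rw [map_mul, hz]; exact Invol.invol_mul_self hc),
    fun m hm => ⟨hTN hm, (hone (⟨m, hm⟩ * z * ⟨m, hm⟩⁻¹ * z⁻¹)).1 ?_⟩⟩
  rw [map_mul, map_mul, map_mul, map_inv, map_inv, hz, mem_center_iff.1 c.2 (q ⟨m, hm⟩),
    mul_inv_cancel_right, mul_inv_cancel]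

/-- In a cyclic group a subgroup is determined by its order. -/
theorem normalizer_le_of_cyclic [Finite G] {D E : Subgroup G} [IsCyclic E] (hDE : D ≤ E) :
    normalizer (E : Set G) ≤ normalizer (D : Set G) := by
  classical
  haveI := Fintype.ofFinite E
  intro g hg
  refine mem_normalizer_of_conj_le fun x hx => ?_
  have hy : g * x * g⁻¹ ∈ E := conj_mem hg (hDE hx)
  have hsub : Finset.univ.filter (fun a : E => (a : G) ∈ D) ⊆
      Finset.univ.filter (fun a : E => a ^ Nat.card D = 1) := by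
    intro a ha
    simp only [Finset.mem_filter, Finset.mem_univ, true_and] at ha ⊢
    refine Subtype.ext ?_
    have := congrArg Subtype.val (pow_card_eq_one' (x := (⟨(a : G), ha⟩ : D)))
    simp only [SubgroupClass.coe_pow, OneMemClass.coe_one] at this ⊢
    exact this
  have hcard : (Finset.univ.filter (fun a : E => (a : G) ∈ D)).card = Nat.card D := by
    rw [← Fintype.card_subtype, ← Nat.card_eq_fintype_card]
    exact Nat.card_congr
      ⟨fun a => ⟨(a.1 : G), a.2⟩, fun d => ⟨⟨(d : G), hDE d.2⟩, d.2⟩, fun _ => rfl, fun _ => rfl⟩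
  have heq := Finset.eq_of_subset_of_card_le hsub
    ((IsCyclic.card_pow_eq_one_le (n := Nat.card D) Nat.card_pos).trans hcard.ge)
  have hmem : (⟨g * x * g⁻¹, hy⟩ : E) ∈ Finset.univ.filter (fun a : E => a ^ Nat.card D = 1) := by
    simp only [Finset.mem_filter, Finset.mem_univ, true_and]
    refine Subtype.ext ?_
    have := congrArg Subtype.val (pow_card_eq_one' (x := (⟨x, hx⟩ : D)))
    simp only [SubgroupClass.coe_pow, OneMemClass.coe_one] at this ⊢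
    rw [conj_pow, this, mul_one, mul_inv_cancel]
  rw [← heq] at hmem
  simpa using hmem

/-! ### Sylow 2-subgroups -/

/-- `S` is the only Sylow 2-subgroup containing `P`. -/
def Uniq (S : Sylow 2 G) (P : Subgroup G) : Prop :=
  ∀ T : Sylow 2 G, P ≤ (T : Subgroup G) → T = S

theorem Uniq.mono {S : Sylow 2 G} {P P' : Subgroup G} (h : Uniq S P) (hle : P ≤ P') : Uniq S P' :=
  fun T hT => h T (hle.trans hT)

theorem mem_smul_iff {g x : G} {S : Sylow 2 G} :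
    x ∈ ((g • S : Sylow 2 G) : Subgroup G) ↔ g⁻¹ * x * g ∈ (S : Subgroup G) := by
  rw [Sylow.coe_subgroup_smul, Subgroup.mem_pointwise_smul_iff_inv_smul_mem]
  simp [MulAut.smul_def]

theorem Uniq.mem_normalizer {S : Sylow 2 G} {P : Subgroup G} (h : Uniq S P) {g : G}
    (hg : ∀ x ∈ P, g * x * g⁻¹ ∈ (S : Subgroup G)) : g ∈ normalizer (S : Set G) := by
  have h1 : g⁻¹ • S = S := h _ fun x hx => mem_smul_iff.2 (by simpa using hg x hx)
  simpa using inv_mem (Sylow.smul_eq_iff_mem_normalizer.1 h1)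

variable [Finite G]

theorem exists_pow_two_of_mem {S : Sylow 2 G} {x : G} (hx : x ∈ (S : Subgroup G)) :
    ∃ k : ℕ, x ^ 2 ^ k = 1 := by
  obtain ⟨k, hk⟩ := S.2 ⟨x, hx⟩
  exact ⟨k, by simpa using congrArg Subtype.val hk⟩

theorem exists_pow_two_of_sq {S : Sylow 2 G} {x : G} (hx : x * x ∈ (S : Subgroup G)) :
    ∃ k : ℕ, x ^ 2 ^ k = 1 := by
  obtain ⟨k, hk⟩ := exists_pow_two_of_mem hx
  exact ⟨k + 1, by rw [pow_succ', pow_mul, pow_two, hk]⟩

theorem mem_of_normalizer {S : Sylow 2 G} {x : G} (hx : x ∈ normalizer (S : Set G))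
    (h2 : ∃ k : ℕ, x ^ 2 ^ k = 1) : x ∈ (S : Subgroup G) := by
  haveI : Fact (Nat.Prime 2) := ⟨Nat.prime_two⟩
  obtain ⟨k, hk⟩ := h2
  obtain ⟨j, -, hj⟩ := (Nat.dvd_prime_pow Nat.prime_two).1 (orderOf_dvd_of_pow_eq_one hk)
  have hp : IsPGroup 2 (zpowers x) := IsPGroup.of_card (n := j) (by rw [Nat.card_zpowers, hj])
  have h := hp.to_sup_of_normal_right' S.2 (zpowers_le.2 hx)
  exact S.3 h le_sup_right ▸ mem_sup_left (mem_zpowers x)

theorem Uniq.mem_of_normalizer {S : Sylow 2 G} {P : Subgroup G} (h : Uniq S P)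
    (hP : P ≤ (S : Subgroup G)) {x : G} (hx : x ∈ normalizer (P : Set G))
    (h2 : ∃ k : ℕ, x ^ 2 ^ k = 1) : x ∈ (S : Subgroup G) :=
  CyclicInter.mem_of_normalizer (h.mem_normalizer fun _ hy => hP (conj_mem hx hy)) h2

theorem Uniq.of_conj {S : Sylow 2 G} {P P' : Subgroup G} (h : Uniq S P) {m : G}
    (hm : m ∈ normalizer (S : Set G)) (hle : ∀ x ∈ P, m * x * m⁻¹ ∈ P') : Uniq S P' := by
  intro T hT
  have h1 : m⁻¹ • T = S := h _ fun x hx => mem_smul_iff.2 (by simpa using hT (hle x hx))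
  calc T = m • (m⁻¹ • T) := (smul_inv_smul m T).symm
    _ = m • S := by rw [h1]
    _ = S := Sylow.smul_eq_iff_mem_normalizer.2 hm

variable (hC : ∀ S T : Sylow 2 G, S ≠ T → IsCyclic ↥((S : Subgroup G) ⊓ (T : Subgroup G)))

include hC

theorem isCyclic_of_not_uniq {S : Sylow 2 G} {P : Subgroup G} (hP : P ≤ (S : Subgroup G))
    (h : ¬ Uniq S P) : IsCyclic P := by
  rw [Uniq] at h
  push Not at h
  obtain ⟨T, hPT, hT⟩ := h
  haveI := hC S T (Ne.symm hT)
  exact isCyclic_of_injective (Subgroup.inclusion (le_inf hP hPT)) (Subgroup.inclusion_injective _)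

theorem uniq_of_not_commute {S : Sylow 2 G} {P Q : Subgroup G} (hP : P ≤ (S : Subgroup G))
    (hQ : ∀ T : Sylow 2 G, Q ≤ (T : Subgroup G)) {x : G} (hx : x ∈ P)
    (hxC : x ∉ centralizer (Q : Set G)) : Uniq S P := by
  intro T hT
  by_contra hne
  haveI := hC S T (Ne.symm hne)
  exact hxC (mem_centralizer_iff.2 fun q hq =>
    cyclic_comm (H := (S : Subgroup G) ⊓ (T : Subgroup G)) ⟨hQ S hq, hQ T hq⟩ ⟨hP hx, hT hx⟩)

theorem exists_normalizer_notMem {S : Sylow 2 G} {P : Subgroup G} (hP : P ≤ (S : Subgroup G))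
    (h : ¬ Uniq S P) :
    ∃ g ∈ normalizer (P : Set G), g ∉ normalizer (S : Set G) := by
  haveI : Fact (Nat.Prime 2) := ⟨Nat.prime_two⟩
  rw [Uniq] at h
  push Not at h
  obtain ⟨T, hPT, hT⟩ := h
  haveI := hC S T (Ne.symm hT)
  set D0 := (S : Subgroup G) ⊓ (T : Subgroup G) with hD0
  have hne : D0.subgroupOf (T : Subgroup G) ≠ ⊤ := by
    rw [Ne, subgroupOf_eq_top]
    exact fun hle => hT (Sylow.ext (T.3 S.2 (hle.trans inf_le_left)).symm)
  haveI := T.2.isNilpotent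
  have hlt := Group.normalizerCondition_of_isNilpotent (G := (T : Subgroup G))
    (D0.subgroupOf (T : Subgroup G)) (lt_top_iff_ne_top.2 hne)
  obtain ⟨y, hy1, hy2⟩ := SetLike.exists_of_lt hlt
  have hyD0 : (y : G) ∈ normalizer (D0 : Set G) := by
    refine mem_normalizer_of_conj_le fun x hx => ?_
    have := conj_mem hy1 (d := (⟨x, hx.2⟩ : (T : Subgroup G))) (mem_subgroupOf.2 hx)
    exact mem_subgroupOf.1 this
  refine ⟨y, normalizer_le_of_cyclic (le_inf hP hPT) hyD0, fun hyS => hy2 (mem_subgroupOf.2 ?_)⟩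
  exact ⟨mem_of_normalizer hyS (exists_pow_two_of_mem y.2), y.2⟩

end CfsgLib.FTHarvest.CyclicInter
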