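import Cfsg.Agent.Lib.FTHarvest.CyclicInterBasic

/-!
# A maximal cyclic subgroup with noncentralising normaliser

`Q` is a normal cyclic 2-subgroup, `D` is maximal among the subgroups over `Q` of a Sylow 2-subgroup
`S` that lie in a second Sylow subgroup and whose normaliser in `S` does not centralise `Q`.
The normaliser of `D` in `S` has exactly one central involution modulo `D`.
-/

set_option autoImplicit false
set_option linter.unusedSectionVars false
set_option linter.style.haveILetI false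

open Subgroup

namespace CfsgLib.FTHarvest.CyclicInter

variable {G : Type*} [Group G] [Finite G]

theorem comm_mem_centralizer (Q : Subgroup G) [Q.Normal] [IsCyclic Q] (g h : G) :
    g * h * g⁻¹ * h⁻¹ ∈ centralizer (Q : Set G) := by
  rw [mem_centralizer_iff]
  intro x hx
  have hcomm : (MulAut.conjNormal g : MulAut Q) * MulAut.conjNormal h =
      MulAut.conjNormal h * MulAut.conjNormal g :=
    (IsCyclic.mulAutMulEquiv (G := Q)).injective (by rw [map_mul, map_mul, mul_comm])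
  have h1 : (MulAut.conjNormal (g * h * g⁻¹ * h⁻¹) : MulAut Q) = 1 := by
    rw [map_mul, map_mul, map_mul, map_inv, map_inv, hcomm, mul_inv_cancel_right, mul_inv_cancel]
  have h2 := congrArg (fun s : MulAut Q => ((s ⟨x, hx⟩ : Q) : G)) h1
  simp only [MulAut.conjNormal_apply, MulAut.one_apply] at h2
  exact (mul_inv_eq_iff_eq_mul.1 h2).symm

theorem odd_mem_centralizer {Q : Subgroup G} [Q.Normal] [IsCyclic Q] (hQ : IsPGroup 2 Q) {g : G}
    (hg : Odd (orderOf g)) : g ∈ centralizer (Q : Set G) := by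
  rw [mem_centralizer_iff]
  intro x hx
  have h1 := Invol.aut_eq_one_of_cyclic_two_group hQ (MulAut.conjNormal g : MulAut Q) hg
    (by rw [← map_pow, pow_orderOf_eq_one, map_one])
  have h2 := congrArg (fun s : MulAut Q => ((s ⟨x, hx⟩ : Q) : G)) h1
  simp only [MulAut.conjNormal_apply, MulAut.one_apply] at h2
  exact (mul_inv_eq_iff_eq_mul.1 h2).symm

/-- `E` lies over `Q` in `S`, `S` is not the only Sylow 2-subgroup containing it, and its
normaliser in `S` does not centralise `Q`. -/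
def Cand (Q : Subgroup G) (S : Sylow 2 G) (E : Subgroup G) : Prop :=
  E ≤ (S : Subgroup G) ∧ Q ≤ E ∧ ¬ Uniq S E ∧
    ∃ x ∈ (S : Subgroup G), x ∈ normalizer (E : Set G) ∧ x ∉ centralizer (Q : Set G)

/-- `D` is a candidate of maximal order. -/
structure MaxD (Q : Subgroup G) (S : Sylow 2 G) (D : Subgroup G) : Prop where
  cand : Cand Q S D
  max : ∀ E, Cand Q S E → Nat.card E ≤ Nat.card D

/-- `z` is an involution modulo `D` of `N_S(D)`, central modulo `D`. -/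
structure CInvol (S : Sylow 2 G) (D : Subgroup G) (z : G) : Prop where
  mem : z ∈ (S : Subgroup G)
  norm : z ∈ normalizer (D : Set G)
  notMem : z ∉ D
  sq : z * z ∈ D
  cent : (S : Subgroup G) ⊓ normalizer (D : Set G) ≤ centMod D z

variable {Q : Subgroup G} {S : Sylow 2 G} {D : Subgroup G}

theorem MaxD.le (h : MaxD Q S D) : D ≤ (S : Subgroup G) := h.cand.1

theorem MaxD.core (h : MaxD Q S D) : Q ≤ D := h.cand.2.1

theorem MaxD.not_uniq (h : MaxD Q S D) : ¬ Uniq S D := h.cand.2.2.1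

theorem MaxD.uniq_of_lt (h : MaxD Q S D) {E : Subgroup G} (hE : E ≤ (S : Subgroup G)) (hlt : D < E)
    {x : G} (hxS : x ∈ (S : Subgroup G)) (hxN : x ∈ normalizer (E : Set G))
    (hxC : x ∉ centralizer (Q : Set G)) : Uniq S E := by
  by_contra hu
  exact hlt.ne (eq_of_le_of_card_ge hlt.le (h.max E ⟨hE, h.core.trans hlt.le, hu, x, hxS, hxN, hxC⟩))

variable (hC : ∀ S T : Sylow 2 G, S ≠ T → IsCyclic ↥((S : Subgroup G) ⊓ (T : Subgroup G)))

include hC

/-- The half power of an element of `N_S(D)` outside `C(Q)` is conjugate modulo `D` to every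
central involution of `N_S(D)` modulo `D`. -/
theorem exists_conj (hM : MaxD Q S D) {x r z : G} (hxS : x ∈ (S : Subgroup G))
    (hxN : x ∈ normalizer (D : Set G)) (hxC : x ∉ centralizer (Q : Set G)) (hxr : Commute x r)
    (hrS : r ∈ (S : Subgroup G)) (hrN : r ∈ normalizer (D : Set G)) (hrD : r ∉ D) (hr2 : r * r ∈ D)
    (hz : CInvol S D z) :
    ∃ k ∈ normalizer (D : Set G) ⊓ normalizer (S : Set G), k * r * k⁻¹ * z⁻¹ ∈ D := by
  have hxcr : x ∈ centMod D r := ⟨hxN, by rw [hxr.eq, mul_inv_cancel_right, mul_inv_cancel]; exact one_mem D⟩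
  have hxcz : x ∈ centMod D z := hz.cent ⟨hxS, hxN⟩
  have hDr : D ⊔ zpowers r ≤ (S : Subgroup G) := sup_le hM.le (zpowers_le.2 hrS)
  have hDz : D ⊔ zpowers z ≤ (S : Subgroup G) := sup_le hM.le (zpowers_le.2 hz.mem)
  have hUr : Uniq S (D ⊔ zpowers r) :=
    hM.uniq_of_lt hDr (lt_sup_zpowers hrD) hxS (mem_normalizer_sup hxcr) hxC
  have hUz : Uniq S (D ⊔ zpowers z) :=
    hM.uniq_of_lt hDz (lt_sup_zpowers hz.notMem) hxS (mem_normalizer_sup hxcz) hxC
  -- a conjugation sending `r` to `z` modulo an overgroup of `D` normalises `S`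
  have key : ∀ E : Subgroup G, D ≤ E → E ≤ (S : Subgroup G) → ∀ k ∈ normalizer (E : Set G),
      k * r * k⁻¹ * z⁻¹ ∈ E → k ∈ normalizer (S : Set G) := fun E hDE hES k hk h =>
    (hUr.mono (sup_le_sup_right hDE _)).mem_normalizer fun y hy =>
      sup_le hES (zpowers_le.2 hz.mem) (sup_conj hk h y hy)
  obtain ⟨g, hgN, hgS⟩ := exists_normalizer_notMem hC hM.le hM.not_uniq
  set v := g * z * g⁻¹ with hvdef
  have hvN : v ∈ normalizer (D : Set G) := mul_mem (mul_mem hgN hz.norm) (inv_mem hgN)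
  have hvD : v ∉ D := fun h => hz.notMem (by
    have := conj_mem' hgN h
    rwa [hvdef, show g⁻¹ * (g * z * g⁻¹) * g = z by group] at this)
  have hv2 : v * v ∈ D := by
    rw [hvdef, show g * z * g⁻¹ * (g * z * g⁻¹) = g * (z * z) * g⁻¹ by group]
    exact conj_mem hgN hz.sq
  rcases dihedral_mod D hrN hvN hrD hr2 hvD hv2 with ⟨k, hk, hkr⟩ | ⟨e, heN, heD, he2, hre, hve⟩
  · have h1 : g⁻¹ * k * r * (g⁻¹ * k)⁻¹ * z⁻¹ ∈ D := by
      have := conj_mem' hgN hkr
      rwa [show g⁻¹ * (k * r * k⁻¹ * v⁻¹) * g = g⁻¹ * k * r * (g⁻¹ * k)⁻¹ * z⁻¹ by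
        rw [hvdef]; group] at this
    exact ⟨g⁻¹ * k, ⟨Subgroup.mul_mem _ (Subgroup.inv_mem _ hgN) hk, key D le_rfl hM.le _ (mul_mem (inv_mem hgN) hk) h1⟩, h1⟩
  have heS : e ∈ (S : Subgroup G) :=
    hUr.mem_of_normalizer hDr (mem_normalizer_sup (centMod_symm heN hre))
      (exists_pow_two_of_sq (hM.le he2))
  have hDe : D ⊔ zpowers e ≤ (S : Subgroup G) := sup_le hM.le (zpowers_le.2 heS)
  have hDeU : ¬ Uniq S (D ⊔ zpowers e) := fun hu => hgS (hUz.mem_normalizer fun y hy =>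
    sup_le hM.le (zpowers_le.2 (hu.mem_of_normalizer hDe (mem_normalizer_sup hve)
      (exists_pow_two_of_sq (hM.le hv2))))
      (sup_conj hgN (b := v) (by rw [hvdef, mul_inv_cancel]; exact one_mem D) y hy))
  haveI : Nonempty {E : Subgroup G // D < E ∧ E ≤ (S : Subgroup G) ⊓ normalizer (D : Set G) ∧
      ¬ Uniq S E ∧ r ∈ normalizer (E : Set G)} :=
    ⟨⟨D ⊔ zpowers e, lt_sup_zpowers heD,
      le_inf hDe (sup_le (le_normalizer (H := D)) (zpowers_le.2 heN)), hDeU, mem_normalizer_sup hre⟩⟩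
  obtain ⟨⟨E, hDE, hET, hEU, hrE⟩, hEmax⟩ := Finite.exists_max
    (fun E : {E : Subgroup G // D < E ∧ E ≤ (S : Subgroup G) ⊓ normalizer (D : Set G) ∧
      ¬ Uniq S E ∧ r ∈ normalizer (E : Set G)} => Nat.card E.1)
  have hES : E ≤ (S : Subgroup G) := hET.trans inf_le_left
  haveI := isCyclic_of_not_uniq hC hES hEU
  have hNE : normalizer (E : Set G) ≤ normalizer (D : Set G) := normalizer_le_of_cyclic hDE.le
  have hrEm : r ∉ E := fun h => hEU (hUr.mono (sup_le hDE.le (zpowers_le.2 h)))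
  have hzEm : z ∉ E := fun h => hEU (hUz.mono (sup_le hDE.le (zpowers_le.2 h)))
  have hzE : z ∈ normalizer (E : Set G) := mem_normalizer_of_conj_le fun y hy => by
    have h1 := (centMod_symm hz.norm (hz.cent (hET hy))).2
    rw [show z * y * z⁻¹ = z * y * z⁻¹ * y⁻¹ * y by group]
    exact mul_mem (hDE.le h1) hy
  obtain ⟨g₁, hg₁N, hg₁S⟩ := exists_normalizer_notMem hC hES hEU
  set v₁ := g₁ * z * g₁⁻¹ with hv₁def
  have hv₁N : v₁ ∈ normalizer (E : Set G) := mul_mem (mul_mem hg₁N hzE) (inv_mem hg₁N)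
  have hv₁E : v₁ ∉ E := fun h => hzEm (by
    have := conj_mem' hg₁N h
    rwa [hv₁def, show g₁⁻¹ * (g₁ * z * g₁⁻¹) * g₁ = z by group] at this)
  have hv₁2 : v₁ * v₁ ∈ E := by
    rw [hv₁def, show g₁ * z * g₁⁻¹ * (g₁ * z * g₁⁻¹) = g₁ * (z * z) * g₁⁻¹ by group]
    exact conj_mem hg₁N (hDE.le hz.sq)
  rcases dihedral_mod E hrE hv₁N hrEm (hDE.le hr2) hv₁E hv₁2 with
    ⟨k, hk, hkr⟩ | ⟨e', he'N, he'E, he'2, hre', hve'⟩
  · set k' := g₁⁻¹ * k with hk'def
    have hk'E : k' ∈ normalizer (E : Set G) := mul_mem (inv_mem hg₁N) hk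
    have h1 : k' * r * k'⁻¹ * z⁻¹ ∈ E := by
      have := conj_mem' hg₁N hkr
      rwa [show g₁⁻¹ * (k * r * k⁻¹ * v₁⁻¹) * g₁ = k' * r * k'⁻¹ * z⁻¹ by
        rw [hv₁def, hk'def]; group] at this
    have hk'S := key E hDE.le hES k' hk'E h1
    have hk'D := hNE hk'E
    set z' := k'⁻¹ * z * k' with hz'def
    have hz'N : z' ∈ normalizer (D : Set G) := mul_mem (mul_mem (inv_mem hk'D) hz.norm) hk'D
    have hm : k' * x * k'⁻¹ ∈ centMod D z :=
      hz.cent ⟨conj_mem hk'S hxS, Subgroup.mul_mem _ (Subgroup.mul_mem _ hk'D hxN) (Subgroup.inv_mem _ hk'D)⟩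
    have hxz' : x ∈ centMod D z' := by
      have := conj_mem_centMod (inv_mem hk'D) hm
      rwa [show k'⁻¹ * (k' * x * k'⁻¹) * k'⁻¹⁻¹ = x by group, inv_inv] at this
    have he₂E : r * z'⁻¹ ∈ E := by
      have := conj_mem' hk'E h1
      rwa [show k'⁻¹ * (k' * r * k'⁻¹ * z⁻¹) * k' = r * z'⁻¹ by rw [hz'def]; group] at this
    have he₂D : r * z'⁻¹ ∈ D := by
      by_contra hn
      exact hEU ((hM.uniq_of_lt (sup_le hM.le (zpowers_le.2 (hES he₂E))) (lt_sup_zpowers hn) hxS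
        (mem_normalizer_sup (centMod_mul hrN hxcr (centMod_inv hz'N hxz'))) hxC).mono
        (sup_le hDE.le (zpowers_le.2 he₂E)))
    refine ⟨k', ⟨hk'D, hk'S⟩, ?_⟩
    have := conj_mem hk'D he₂D
    rwa [show k' * (r * z'⁻¹) * k'⁻¹ = k' * r * k'⁻¹ * z⁻¹ by rw [hz'def]; group] at this
  · exfalso
    have hEr : E ⊔ zpowers r ≤ (S : Subgroup G) := sup_le hES (zpowers_le.2 hrS)
    have he'S : e' ∈ (S : Subgroup G) :=
      (hUr.mono (sup_le_sup_right hDE.le _)).mem_of_normalizer hEr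
        (mem_normalizer_sup (centMod_symm he'N hre')) (exists_pow_two_of_sq (hES he'2))
    have hEe : E ⊔ zpowers e' ≤ (S : Subgroup G) := sup_le hES (zpowers_le.2 he'S)
    have hlt := lt_sup_zpowers he'E
    have hu : ¬ Uniq S (E ⊔ zpowers e') := fun hu =>
      hg₁S ((hUz.mono (sup_le_sup_right hDE.le _)).mem_normalizer fun y hy =>
        sup_le hES (zpowers_le.2 (hu.mem_of_normalizer hEe (mem_normalizer_sup hve')
          (exists_pow_two_of_sq (hES hv₁2))))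
          (sup_conj hg₁N (b := v₁) (by rw [hv₁def, mul_inv_cancel]; exact one_mem E) y hy))
    have hle := hEmax ⟨E ⊔ zpowers e', hDE.trans hlt,
      le_inf hEe (sup_le (hET.trans inf_le_right) (zpowers_le.2 (hNE he'N))), hu,
      mem_normalizer_sup hre'⟩
    exact hlt.ne (eq_of_le_of_card_ge hlt.le hle)

/-- `N_S(D)` has exactly one central involution modulo `D`. -/
theorem cinvol_unique [Q.Normal] [IsCyclic Q] (hQ : IsPGroup 2 Q)
    (hQle : ∀ T : Sylow 2 G, Q ≤ (T : Subgroup G)) (hM : MaxD Q S D) {z z₀ : G}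
    (hz : CInvol S D z) (hz₀ : CInvol S D z₀) : z * z₀⁻¹ ∈ D := by
  obtain ⟨x₀, hx₀S, hx₀N, hx₀C⟩ := hM.cand.2.2.2
  have hDC : ∀ y ∈ D, y ∈ centralizer (Q : Set G) := fun y hy => by
    by_contra hn
    exact hM.not_uniq (uniq_of_not_commute hC hM.le hQle hy hn)
  have hconj : ∀ x ∈ (S : Subgroup G), x ∈ normalizer (D : Set G) → x ∉ centralizer (Q : Set G) →
      ∃ n : ℕ, ∀ w : G, CInvol S D w →
        ∃ k ∈ normalizer (D : Set G) ⊓ normalizer (S : Set G), k * x ^ 2 ^ n * k⁻¹ * w⁻¹ ∈ D := by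
    intro x hxS hxN hxC
    obtain ⟨n, hn1, hn2, -⟩ := exists_half D (exists_pow_two_of_mem hxS) (fun h => hxC (hDC x h))
    exact ⟨n, fun w hw => exists_conj hC hM hxS hxN hxC ((Commute.refl x).pow_right _)
      (pow_mem hxS _) (pow_mem hxN _) hn1 hn2 hw⟩
  set M := normalizer (D : Set G) ⊓ normalizer (S : Set G) with hMdef
  set H := (centMod D z₀).subgroupOf M with hHdef
  have hH : H.index = 1 := by
    by_contra hne
    obtain ⟨q, hq, hdvd⟩ := Nat.exists_prime_and_dvd hne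
    haveI : Fact q.Prime := ⟨hq⟩
    obtain ⟨R⟩ : Nonempty (Sylow q M) := inferInstance
    suffices h : ∃ k : M, ∀ ρ ∈ (R : Subgroup M), k * ρ * k⁻¹ ∈ H by
      obtain ⟨k, hk⟩ := h
      have hle : (R : Subgroup M).map (MulAut.conj k).toMonoidHom ≤ H :=
        map_le_iff_le_comap.2 fun ρ hρ => hk ρ hρ
      have hidx : ((R : Subgroup M).map (MulAut.conj k).toMonoidHom).index = (R : Subgroup M).index := by
        exact index_map_equiv (R : Subgroup M) (MulAut.conj k)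
      exact R.not_dvd_index (hidx ▸ hdvd.trans (index_dvd_of_le hle))
    rcases eq_or_ne q 2 with rfl | hq2
    · refine ⟨1, fun ρ hρ => ?_⟩
      rw [one_mul, inv_one, mul_one, hHdef, mem_subgroupOf]
      obtain ⟨k, hk⟩ := R.2 ⟨ρ, hρ⟩
      have h2 : ∃ k : ℕ, (ρ : G) ^ 2 ^ k = 1 :=
        ⟨k, by simpa using congrArg (fun a : (R : Subgroup M) => ((a : M) : G)) hk⟩
      exact hz₀.cent ⟨mem_of_normalizer ρ.2.2 h2, ρ.2.1⟩
    · have hstab : ∀ ρ : M, ∀ x : G, x ∈ (S : Subgroup G) ⊓ normalizer (D : Set G) →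
          x₀⁻¹ * x ∈ centralizer (Q : Set G) →
          (ρ : G) * x * (ρ : G)⁻¹ ∈ (S : Subgroup G) ⊓ normalizer (D : Set G) ∧
          x₀⁻¹ * ((ρ : G) * x * (ρ : G)⁻¹) ∈ centralizer (Q : Set G) := by
        intro ρ x hx hx'
        refine ⟨⟨conj_mem ρ.2.2 hx.1, Subgroup.mul_mem _ (Subgroup.mul_mem _ ρ.2.1 hx.2) (Subgroup.inv_mem _ ρ.2.1)⟩, ?_⟩
        have h1 := comm_mem_centralizer Q x⁻¹ (ρ : G)
        rw [show x₀⁻¹ * ((ρ : G) * x * (ρ : G)⁻¹) =
          x₀⁻¹ * x * (x⁻¹ * ρ * x⁻¹⁻¹ * (ρ : G)⁻¹) by group]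
        exact mul_mem hx' h1
      let X := {x : G // x ∈ (S : Subgroup G) ⊓ normalizer (D : Set G) ∧
        x₀⁻¹ * x ∈ centralizer (Q : Set G)}
      letI : MulAction (R : Subgroup M) X :=
        { smul := fun ρ x => ⟨((ρ : M) : G) * x.1 * ((ρ : M) : G)⁻¹, hstab ρ x.1 x.2.1 x.2.2⟩
          one_smul := fun x => Subtype.ext (by
            show (((1 : (R : Subgroup M)) : M) : G) * x.1 * (((1 : (R : Subgroup M)) : M) : G)⁻¹ = x.1
            simp)
          mul_smul := fun a b x => Subtype.ext (by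
            show (((a * b : (R : Subgroup M)) : M) : G) * x.1 * (((a * b : (R : Subgroup M)) : M) : G)⁻¹ =
              ((a : M) : G) * (((b : M) : G) * x.1 * ((b : M) : G)⁻¹) * ((a : M) : G)⁻¹
            simp [mul_assoc]) }
      have hTC : IsPGroup 2 ↥((S : Subgroup G) ⊓ normalizer (D : Set G) ⊓ centralizer (Q : Set G)) :=
        S.2.to_le (inf_le_left.trans inf_le_left)
      have hcard : Nat.card X =
          Nat.card ↥((S : Subgroup G) ⊓ normalizer (D : Set G) ⊓ centralizer (Q : Set G)) :=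
        Nat.card_congr
          { toFun := fun x => ⟨x₀⁻¹ * x.1, Subgroup.mul_mem _ (Subgroup.inv_mem _ ⟨hx₀S, hx₀N⟩) x.2.1, x.2.2⟩
            invFun := fun y => ⟨x₀ * y.1, mul_mem ⟨hx₀S, hx₀N⟩ y.2.1, by simpa using y.2.2⟩
            left_inv := fun x => by simp
            right_inv := fun y => by simp }
      have hndvd : ¬ q ∣ Nat.card X := by
        haveI : Fact (Nat.Prime 2) := ⟨Nat.prime_two⟩
        obtain ⟨t, ht⟩ := hTC.exists_card_eq
        rw [hcard, ht]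
        exact fun h => hq2 ((Nat.prime_dvd_prime_iff_eq hq Nat.prime_two).1 (hq.dvd_of_dvd_pow h))
      obtain ⟨⟨x, hxT, hxC'⟩, hfix⟩ := R.2.nonempty_fixed_point_of_prime_not_dvd_card X hndvd
      have hxC : x ∉ centralizer (Q : Set G) := fun h => hx₀C (by
        have := mul_mem h (inv_mem hxC')
        rwa [show x * (x₀⁻¹ * x)⁻¹ = x₀ by group] at this)
      obtain ⟨n, hn⟩ := hconj x hxT.1 hxT.2 hxC
      obtain ⟨k, hk, hkr⟩ := hn z₀ hz₀
      refine ⟨⟨k, hk⟩, fun ρ hρ => ?_⟩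
      have hρx : (ρ : G) * x * (ρ : G)⁻¹ = x := congrArg Subtype.val (hfix ⟨ρ, hρ⟩)
      have hρr : (ρ : G) ∈ centMod D (x ^ 2 ^ n) :=
        ⟨ρ.2.1, by rw [← conj_pow, hρx, mul_inv_cancel]; exact one_mem D⟩
      rw [hHdef, mem_subgroupOf]
      exact centMod_congr_le (by simpa using inv_mem hkr) (conj_mem_centMod hk.1 hρr)
  have hMle : M ≤ centMod D z₀ := subgroupOf_eq_top.1 (index_eq_one.1 hH)
  obtain ⟨n, hn⟩ := hconj x₀ hx₀S hx₀N hx₀C
  obtain ⟨k, hk, hkr⟩ := hn z hz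
  obtain ⟨k₀, hk₀, hk₀r⟩ := hn z₀ hz₀
  have hk₁ : k * k₀⁻¹ ∈ M := mul_mem hk (inv_mem hk₀)
  rw [show z * z₀⁻¹ = (k * x₀ ^ 2 ^ n * k⁻¹ * z⁻¹)⁻¹ *
    ((k * k₀⁻¹) * (k₀ * x₀ ^ 2 ^ n * k₀⁻¹ * z₀⁻¹) * (k * k₀⁻¹)⁻¹) *
    ((k * k₀⁻¹) * z₀ * (k * k₀⁻¹)⁻¹ * z₀⁻¹) by group]
  exact mul_mem (mul_mem (inv_mem hkr) (conj_mem hk₁.1 hk₀r)) (hMle hk₁).2

end CfsgLib.FTHarvest.CyclicInter
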