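import Mathlib
import Cfsg.Agent.Lib.Coprime.Action
import Cfsg.Agent.Lib.Fusion.Thompson

/-!
# Subgroups invariant under a group of automorphisms
-/

set_option autoImplicit false
set_option linter.unusedSectionVars false
set_option linter.style.haveILetI false

open Subgroup

namespace CfsgLib.FTHarvest

universe u v

variable {A : Type v} {G : Type u} [Group A] [Group G] [MulDistribMulAction A G]

/-- `H` is invariant under `A`. -/
def Inv (A : Type v) {G : Type u} [Group A] [Group G] [MulDistribMulAction A G] (H : Subgroup G) : Prop :=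
  ∀ a : A, ∀ x ∈ H, a • x ∈ H

theorem inv_of_map_eq {H : Subgroup G}
    (h : ∀ a : A, H.map (MulDistribMulAction.toMulEquiv G a).toMonoidHom = H) : Inv A H :=
  fun a x hx => h a ▸ mem_map_of_mem _ hx

theorem Inv.map_eq [Finite G] {H : Subgroup G} (h : Inv A H) (a : A) :
    H.map (MulDistribMulAction.toMulEquiv G a).toMonoidHom = H := by
  refine eq_of_le_of_card_ge (map_le_iff_le_comap.2 fun x hx => h a x hx) ?_
  exact (card_map_of_injective (K := H) (f := (MulDistribMulAction.toMulEquiv G a).toMonoidHom)
    (MulDistribMulAction.toMulEquiv G a).injective).ge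

theorem inv_of_characteristic (H : Subgroup G) [hH : H.Characteristic] : Inv A H :=
  inv_of_map_eq fun a => characteristic_iff_map_eq.1 hH (MulDistribMulAction.toMulEquiv G a)

theorem Inv.inf {H K : Subgroup G} (h : Inv A H) (h' : Inv A K) : Inv A (H ⊓ K) :=
  fun a x hx => ⟨h a x hx.1, h' a x hx.2⟩

theorem Inv.sup [Finite G] {H K : Subgroup G} (h : Inv A H) (h' : Inv A K) : Inv A (H ⊔ K) :=
  inv_of_map_eq fun a => by rw [Subgroup.map_sup, h.map_eq, h'.map_eq]

theorem Inv.normalizer [Finite G] {H : Subgroup G} (h : Inv A H) :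
    Inv A (Subgroup.normalizer (H : Set G)) :=
  inv_of_map_eq fun a => by rw [map_equiv_normalizer_eq, h.map_eq]

theorem Inv.centralizer {H : Subgroup G} (h : Inv A H) : Inv A (Subgroup.centralizer (H : Set G)) :=
  fun a x hx => mem_centralizer_iff.2 fun y hy => by
    have h1 := congrArg (a • ·) (mem_centralizer_iff.1 hx (a⁻¹ • y) (h a⁻¹ y hy))
    simpa only [smul_mul', smul_inv_smul] using h1

theorem Inv.thompson [Finite G] {H : Subgroup G} (p : ℕ) (h : Inv A H) :
    Inv A (Cfsg.thompsonSubgroupOf p H) :=
  inv_of_map_eq fun a => by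
    rw [CfsgLib.Fusion.map_thompsonSubgroupOf _ fun x _ e =>
      (MulDistribMulAction.toMulEquiv G a).map_eq_one_iff.1 e, h.map_eq]

/-- Coprime action with `A` or `G` solvable: an invariant Sylow subgroup. -/
theorem exists_inv_sylow [Finite A] [Finite G] (hcop : (Nat.card A).Coprime (Nat.card G))
    (hsolv : Group.IsSolvable A ∨ Group.IsSolvable G) (p : ℕ) [Fact p.Prime] :
    ∃ P : Sylow p G, Inv A (P : Subgroup G) := by
  set φ := MulDistribMulAction.toMulAut A G
  haveI : Finite (G ⋊[φ] A) := Finite.of_equiv _ SemidirectProduct.equivProd.symm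
  set K : Subgroup (G ⋊[φ] A) := (SemidirectProduct.inl : G →* G ⋊[φ] A).range with hK
  set A' : Subgroup (G ⋊[φ] A) := (SemidirectProduct.inr : A →* G ⋊[φ] A).range with hA'
  haveI hKn : K.Normal := by rw [hK, SemidirectProduct.range_inl_eq_ker_rightHom]; infer_instance
  have eK : G ≃* K := MonoidHom.ofInjective SemidirectProduct.inl_injective
  have eA : A ≃* A' := MonoidHom.ofInjective SemidirectProduct.inr_injective
  obtain ⟨Q, hQ, hQA⟩ := CfsgLib.Coprime.exists_invariant_sylow (A := A') (K := K)
    (by rw [normalizer_eq_top]; exact le_top)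
    (by rwa [← Nat.card_congr eA.toEquiv, ← Nat.card_congr eK.toEquiv])
    (hsolv.imp (fun h => by haveI := h; exact Group.isSolvable_of_surjective (f := eA.toMonoidHom) eA.surjective)
      fun h => by haveI := h; exact Group.isSolvable_of_surjective (f := eK.toMonoidHom) eK.surjective) p
  have hc : Nat.card (Q.comap (SemidirectProduct.inl : G →* G ⋊[φ] A)) =
      p ^ (Nat.card G).factorization p := by
    rw [← card_map_of_injective (f := (SemidirectProduct.inl : G →* G ⋊[φ] A))
      SemidirectProduct.inl_injective, map_comap_eq_self hQ.1, hQ.2, ← Nat.card_congr eK.toEquiv]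
  refine ⟨Sylow.ofCard _ hc, fun a x hx => ?_⟩
  show SemidirectProduct.inl (a • x) ∈ Q
  rw [show a • x = φ a x from rfl, SemidirectProduct.inl_aut, map_inv]
  exact (mem_normalizer_iff.1 (hQA (MonoidHom.mem_range.2 ⟨a, rfl⟩)) _).1 hx

section Quot

variable (A) (N : Subgroup G) [N.Normal]

/-- The action on the quotient by an invariant normal subgroup. -/
def quotAut (hN : ∀ a : A, N.map (MulDistribMulAction.toMulEquiv G a).toMonoidHom = N) :
    A →* MulAut (G ⧸ N) where
  toFun a := QuotientGroup.congr N N (MulDistribMulAction.toMulEquiv G a) (hN a)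
  map_one' := by
    ext q
    induction q using QuotientGroup.induction_on with
    | _ x => simp [QuotientGroup.congr_mk, MulDistribMulAction.toMulEquiv]
  map_mul' a b := by
    ext q
    induction q using QuotientGroup.induction_on with
    | _ x => simp [QuotientGroup.congr_mk, MulDistribMulAction.toMulEquiv, mul_smul]

theorem quotAut_mk (hN : ∀ a : A, N.map (MulDistribMulAction.toMulEquiv G a).toMonoidHom = N)
    (a : A) (x : G) : quotAut A N hN a (QuotientGroup.mk x) = QuotientGroup.mk (a • x) := rfl

end Quot

end CfsgLib.FTHarvest
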